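import Cfsg.Agent.Lib.BTBlock.Subn.Inner

/-!
# Blocks and subnormal blocks
-/

set_option autoImplicit false

namespace Cfsg.Agent.Lib.BTBlock.Subn

open Subgroup Cfsg Sub Matrix Cfsg.Agent.Lib.SL2
open scoped commutatorElement

universe u

variable {G : Type u} [Group G] [Finite G] {p : ℕ} [Fact p.Prime] {E F : Subgroup G}

/-- A linear `p`-element is quadratic on the section. -/
theorem SL2Sec.IsLin.quadratic {K : Type} [Field K] [CharP K p] {U Z : Subgroup G}
    {S : SL2Sec K E U Z} {b : G} (hb : S.IsLin b) {r : ℕ} (hr : b ^ p ^ r = 1) {x : G} (hx : x ∈ U) :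
    b * (b * x * b⁻¹ * x⁻¹) * b⁻¹ * (b * x * b⁻¹ * x⁻¹)⁻¹ ∈ Z := by
  have hbx : b * x * b⁻¹ ∈ U := (conj_mem_iff hb.1.1.2 x).mpr hx
  set y := b * x * b⁻¹ * x⁻¹
  have hy : y ∈ U := mul_mem hbx (inv_mem hx)
  have hby : b * y * b⁻¹ ∈ U := (conj_mem_iff hb.1.1.2 y).mpr hy
  rw [← S.val_eq_iff hby hy, ← S.act_val hb.1 hy]
  have hv : S.val y = S.act b (S.val x) - S.val x := by
    rw [S.act_val hb.1 hx, S.val_mul hbx (inv_mem hx), S.val_inv hx, sub_eq_add_neg]
  have h2 := congrArg (fun M : Matrix (Fin 2) (Fin 2) K => M.mulVec (S.val x)) (hb.unipotent hr).2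
  simp only [← Matrix.mulVec_mulVec, Matrix.sub_mulVec, Matrix.one_mulVec, Matrix.zero_mulVec,
    ← hb.act_eq] at h2
  rw [hv]
  exact sub_eq_zero.mp h2

/-- `O_p` of an exceptional block has no invariant supplement of `W` modulo `Z`. -/
theorem no_split (hG : centralizer (pCore p G : Set G) ≤ pCore p G) {T : Sylow p G}
    (hF : IsBaumannBlock p (T : Subgroup G) F) (hQW : bQ p F ≠ bW p F) {X : Subgroup G}
    (hXQ : X ≤ bQ p F) (hBX : baumannSubgroupOf p (T : Subgroup G) ≤ normalizer (X : Set G))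
    (hXW : bQ p F ≤ X ⊔ bW p F) (hXZ : X ⊓ bW p F ≤ bZ p F) : False := by
  have hFb : IsBlock p F := ⟨T, hF⟩
  have hBF := BTBlock.baumann_le_normalizer hF
  set B := baumannSubgroupOf p (T : Subgroup G)
  rcases hF.2.2.2.2 with ⟨K, i1, i2, n, hc, hiso, hact, hex⟩ | ⟨-, m, -, -, h⟩
  swap
  · exact hQW h
  rcases hex with h | ⟨hp, hact', hder, -, -, -, hquad⟩
  · exact hQW h
  haveI : CharP K p := charP_of_card_eq_prime_pow hc
  obtain ⟨S⟩ := exists_sec hact
  obtain ⟨S₂⟩ := exists_sec hact'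
  -- an element of `B` moving `W`
  obtain ⟨b, hb, hbW⟩ : ∃ b ∈ B, b ∉ centralizer (bW p F : Set G) := by
    by_contra hno
    push Not at hno
    refine commutator_thompson_ne_bot hG hF ?_
    rw [commutator_comm, commutator_eq_bot_iff_le_centralizer]
    intro j hj
    exact centralizer_le (bM_le_bW F) (hno j (thompson_le_baumann _ hj))
  refine hquad b hb hbW ?_
  have hbl := S.baumann_isLin hG hFb hiso hBF hb
  obtain ⟨r, hr⟩ := sylow_baumann_isPGroup T ⟨b, hb⟩
  have hr' : b ^ p ^ r = 1 := congrArg Subtype.val hr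
  have hb₂ := S.isLin₂_of_isLin S₂ hFb hp (hder.le.trans inf_le_left) hbl (hbl.unipotent hr').1
  obtain ⟨hbQ, hbWn, hbZ⟩ := le_normalizer_section (p := p) F (X := normalizer (F : Set G)) le_rfl
  have hbN := hBF hb
  have hQQ : ∀ x ∈ bQ p F, ∀ y ∈ bQ p F, x * y * x⁻¹ * y⁻¹ ∈ bZ p F := fun x hx y hy =>
    hder.le (commutator_mem_commutator hx hy)
  have hZc : ∀ {z : G}, z ∈ bZ p F → ∀ {x : G}, x ∈ F → x * z = z * x := fun {z} hz {x} hx =>
    mem_centralizer_iff.mp hz.2 x hx
  have hQF : bQ p F ≤ F := Amalgam.pCoreOf_le p F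
  let T1 : Subgroup G :=
    { carrier := {v | v ∈ bQ p F ∧ b * v * b⁻¹ * v⁻¹ ∈ bZ p F}
      one_mem' := ⟨one_mem _, by simp⟩
      mul_mem' := fun {v w} hv hw => ⟨mul_mem hv.1 hw.1, by
        have e : b * (v * w) * b⁻¹ * (v * w)⁻¹ =
            (b * v * b⁻¹ * v⁻¹) * (b * w * b⁻¹ * w⁻¹) := by
          calc b * (v * w) * b⁻¹ * (v * w)⁻¹
              = (b * v * b⁻¹ * v⁻¹) * (v * (b * w * b⁻¹ * w⁻¹)) * v⁻¹ := by group
            _ = _ := by rw [hZc hw.2 (hQF hv.1)]; group
        rw [e]; exact mul_mem hv.2 hw.2⟩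
      inv_mem' := fun {v} hv => ⟨inv_mem hv.1, by
        have e : b * v⁻¹ * b⁻¹ * v⁻¹⁻¹ = (b * v * b⁻¹ * v⁻¹)⁻¹ := by
          calc b * v⁻¹ * b⁻¹ * v⁻¹⁻¹ = v⁻¹ * (b * v * b⁻¹ * v⁻¹)⁻¹ * v := by group
            _ = _ := by rw [hZc (inv_mem hv.2) (hQF (inv_mem hv.1)), inv_mul_cancel_right]
        rw [e]; exact inv_mem hv.2⟩ }
  have hT1 : ∀ x ∈ bQ p F, b * x * b⁻¹ * x⁻¹ ∈ T1 := by
    intro x hx
    have hx' : x ∈ ((X ⊔ bW p F : Subgroup G) : Set G) := hXW hx
    rw [coe_mul_of_left_le_normalizer_right _ _ (fun y hy =>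
      (le_normalizer_section (p := p) F (le_normalizer (H := F))).2.1 (hQF (hXQ hy)))] at hx'
    obtain ⟨y, hy, w, hw, rfl⟩ := hx'
    beta_reduce at *
    have hby : b * y * b⁻¹ * y⁻¹ ∈ X := mul_mem ((conj_mem_iff (hBX hb) y).mpr hy) (inv_mem hy)
    have h1 : b * y * b⁻¹ * y⁻¹ ∈ T1 := ⟨hXQ hby, hXZ (Subgroup.mem_inf.mpr ⟨mul_mem ((conj_mem_iff (hBX hb) _).mpr hby)
      (inv_mem hby), hb₂.quadratic hr' (hXQ hy)⟩)⟩
    have hbw : b * w * b⁻¹ * w⁻¹ ∈ bW p F :=
      mul_mem ((conj_mem_iff (hbWn hbN) w).mpr hw) (inv_mem hw)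
    have h2 : b * w * b⁻¹ * w⁻¹ ∈ T1 := ⟨bW_le F hbw, hbl.quadratic hr' hw⟩
    have e : b * (y * w) * b⁻¹ * (y * w)⁻¹ =
        (b * y * b⁻¹ * y⁻¹) * (b * w * b⁻¹ * w⁻¹) := by
      calc b * (y * w) * b⁻¹ * (y * w)⁻¹
          = (b * y * b⁻¹ * y⁻¹) * (y * (b * w * b⁻¹ * w⁻¹)) * y⁻¹ := by group
        _ = _ := by rw [commute_bW hbw (hXQ hy)]; group
    rw [e]; exact mul_mem h1 h2
  have hTn : ∀ v ∈ T1, ∀ x ∈ bQ p F, x * v * x⁻¹ ∈ T1 := by
    intro v hv x hx
    have hz := hQQ x hx v hv.1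
    have hz1 : x * v * x⁻¹ * v⁻¹ ∈ T1 := ⟨bW_le F hz.1,
      mul_mem ((conj_mem_iff (hbZ hbN) _).mpr hz) (inv_mem hz)⟩
    have := mul_mem hz1 hv
    rwa [inv_mul_cancel_right] at this
  have hTz : ∀ g ∈ zpowers b, ∀ v ∈ T1, g * v * g⁻¹ ∈ T1 := by
    have hle : zpowers b ≤ normalizer (T1 : Set G) := by
      rw [zpowers_le]
      refine Amalgam.mem_normalizer_of_map_conj_eq (eq_of_le_of_card_ge ?_
        (le_of_eq (Subgroup.card_map_of_injective (MulAut.conj b).injective).symm))
      rintro _ ⟨v, hv, rfl⟩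
      have h : b * v * b⁻¹ ∈ bQ p F := (conj_mem_iff (hbQ hbN) v).mpr hv.1
      refine ⟨h, ?_⟩
      have h2 := (conj_mem_iff (hbZ hbN) _).mpr hv.2
      convert h2 using 1
      simp only [MulEquiv.coe_toMonoidHom, MulAut.conj_apply]
      group
    exact fun g hg v hv => (conj_mem_iff (hle hg) v).mpr hv
  have hstep1 : ∀ g ∈ zpowers b, ∀ x ∈ bQ p F, g * x * g⁻¹ * x⁻¹ ∈ T1 := by
    have hmem : b ∈ trivSub (bQ p F) T1 := by
      refine ⟨⟨hbQ hbN, ?_⟩, hT1⟩
      exact mem_normalizer_iff.mpr fun v => ⟨hTz b (mem_zpowers b) v, fun h => by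
        have := hTz b⁻¹ (inv_mem (mem_zpowers b)) _ h
        convert this using 1
        group⟩
    intro g hg
    exact (zpowers_le.mpr hmem hg).2
  have hstep2 : ∀ g ∈ zpowers b, ∀ v ∈ T1, g * v * g⁻¹ * v⁻¹ ∈ bZ p F := by
    have hmem : b ∈ trivSub T1 (bZ p F) := by
      refine ⟨⟨?_, hbZ hbN⟩, fun v hv => hv.2⟩
      exact mem_normalizer_iff.mpr fun v => ⟨hTz b (mem_zpowers b) v, fun h => by
        have := hTz b⁻¹ (inv_mem (mem_zpowers b)) _ h
        convert this using 1
        group⟩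
    intro g hg
    exact (zpowers_le.mpr hmem hg).2
  have hle1 : ⁅bQ p F, zpowers b⁆ ≤ T1 := by
    rw [commutator_le]
    intro x hx g hg
    have h := inv_mem (hstep1 g hg x hx)
    rwa [← commutatorElement_def, commutatorElement_inv] at h
  refine (commutator_mono hle1 le_rfl).trans ?_
  refine le_trans ?_ (le_inf ((bZ_le F).trans (bW_le_self F)) inf_le_right :
    bZ p F ≤ F ⊓ centralizer (F : Set G))
  rw [commutator_le]
  intro v hv g hg
  have h := inv_mem (hstep2 g hg v hv)
  rwa [← commutatorElement_def, commutatorElement_inv] at h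

/-- A block is contained in a subnormal block or commutes with it. -/
theorem le_or_commute (hG : centralizer (pCore p G : Set G) ≤ pCore p G) (hEs : E.IsSubnormal)
    {T : Sylow p G} (hE : IsBaumannBlock p (T : Subgroup G) E)
    (hF : IsBaumannBlock p (T : Subgroup G) F) (hFN : F ≤ normalizer (E : Set G)) :
    F ≤ E ∨ ⁅F, E⁆ = ⊥ := by
  have hEb : IsBlock p E := ⟨T, hE⟩
  have hFb : IsBlock p F := ⟨T, hF⟩
  by_cases hA : F ≤ centralizer (bM p E : Set G)
  · refine Or.inr ?_
    have hcomm : ∀ f ∈ F, ∀ e ∈ E, ⁅f, e⁆ ∈ bQ p E := fun f hf e he =>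
      (trivOn_props hEb (hFN hf) (trivOn_of_centralizes hEb (hFN hf) (hA hf))).2 e he
    rcases hEb.isBig_or with hbig | ⟨-, -, hQW, -⟩
    · refine commutator_eq_bot_of_big hFb hEb hbig ?_
      rw [commutator_le]
      exact fun f hf e he => ((bQ_eq hEs).le (hcomm f hf e he)).2
    · rw [commutator_comm, commutator_eq_bot_iff_le_centralizer]
      intro e he
      rw [mem_centralizer_iff]
      intro f hf
      have hle : F ≤ centralizer (E : Set G) := by
        conv_lhs => rw [← hFb.eq_closure]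
        rw [closure_le]
        rintro c ⟨hc, hco⟩
        refine mem_centralizer_of_fix hEb ⟨hFN hc, hA hc⟩ hco fun q hq => ?_
        have hqM : q ∈ bM p E := by rw [bM_eq_bW hEb hQW, ← hQW]; exact hq
        rw [← mem_centralizer_iff.mp (hA hc) q hqM, mul_inv_cancel_right]
      exact (mem_centralizer_iff.mp (hle hf) e he).symm
  refine Or.inl ?_
  obtain ⟨hQn, hWn, hZn⟩ := le_normalizer_section (p := p) F (le_normalizer (H := F))
  obtain ⟨hirr, -, -⟩ := hFb.section_W
  have hFM : F ≤ normalizer (bM p E : Set G) := le_normalizer_bM hFN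
  set D := ⁅bM p E, F⁆ with hD
  have hDM : D ≤ bM p E := Coprime.commutator_le_of_le_normalizer hFM
  have hMU := bM_le_bU hG hEb
  have hMR : bM p E ≤ pCore p G := hMU.trans (omegaOneCenter_props p _).1
  have hFD : F ≤ normalizer (D : Set G) := le_normalizer_commutator_right _ F
  have hDQ : D ≤ bQ p F := by
    rw [hD, commutator_le]
    exact fun m hm f hf => (hFb.commutator_mem_bQ hf (hMR hm)).2
  have hexcZ : bQ p F ≠ bW p F → ⁅bQ p F, bQ p F⁆ ≠ ⊥ := fun hQW h => by
    rcases hF.2.2.2.2 with ⟨K, i1, i2, n, hc, -, -, hex⟩ | ⟨-, m, -, -, h'⟩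
    · rcases hex with h' | ⟨-, -, hder, -, hcent, hcard, -⟩
      · exact hQW h'
      · have hn : n ≠ 0 := fun h0 => by
          rw [h0, pow_zero] at hc
          exact (Fintype.one_lt_card (α := K)).ne' hc
        rw [hcent, ← hder, h, card_bot] at hcard
        have : 1 < 3 ^ n := Nat.one_lt_pow hn (by norm_num)
        omega
    · exact hQW h'
  have hDW : D ≤ bW p F := by
    by_cases hQW : bQ p F = bW p F
    · exact hQW ▸ hDQ
    obtain ⟨-, ⟨hirr', -, -⟩, hder, -, -⟩ := hFb.exceptional hQW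
    rcases hirr' (D ⊔ bW p F) le_sup_right (sup_le hDQ (bW_le F))
        (Coprime.le_normalizer_of_conj_mem fun f hf x hx => by
          have : (D ⊔ bW p F).map (MulAut.conj f).toMonoidHom ≤ D ⊔ bW p F := by
            rw [Subgroup.map_sup]
            refine sup_le_sup ?_ ?_ <;> rintro _ ⟨y, hy, rfl⟩
            · exact (conj_mem_iff (hFD hf) y).mpr hy
            · exact (conj_mem_iff (hWn hf) y).mpr hy
          exact this ⟨x, hx, rfl⟩) with h | h
    · exact le_sup_left.trans h.le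
    · exfalso
      refine hexcZ hQW ?_
      rw [commutator_eq_bot_iff_le_centralizer]
      have hab : D ⊔ bW p F ≤ centralizer ((D ⊔ bW p F : Subgroup G) : Set G) := by
        have h1 : ∀ x ∈ D, x ∈ centralizer ((D ⊔ bW p F : Subgroup G) : Set G) := fun x hx => by
          rw [mem_centralizer_iff]
          intro y hy
          have : D ⊔ bW p F ≤ centralizer ({x} : Set G) := sup_le
            (fun d hd => mem_centralizer_singleton_iff.mpr (comm_omega _ (hMU (hDM hd)) (hMU (hDM hx))))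
            (fun w hw => mem_centralizer_singleton_iff.mpr (commute_bW hw (hDQ hx)).symm)
          exact mem_centralizer_singleton_iff.mp (this hy)
        refine sup_le h1 fun w hw => ?_
        rw [mem_centralizer_iff]
        exact fun y hy => commute_bW hw (h.le hy)
      rwa [h] at hab
  have hDne : ¬ D ≤ bZ p F := by
    intro hDZ
    refine hA ?_
    conv_lhs => rw [← hFb.eq_closure]
    rw [closure_le]
    rintro f ⟨hf, hfo⟩
    show f ∈ centralizer (bM p E : Set G)
    rw [mem_centralizer_iff]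
    intro m hm
    set r := m⁻¹ * (f * m * f⁻¹) with hr
    have hrM : r ∈ bM p E := mul_mem (inv_mem hm) ((conj_mem_iff (hFM hf) m).mpr hm)
    have hrZ : r ∈ bZ p F := by
      apply hDZ
      rw [show r = ⁅m⁻¹, f⁆ by rw [hr, commutatorElement_def]; group]
      exact commutator_mem_commutator (inv_mem hm) hf
    have h := fix_of_step (isPGroup_bM E) hfo (x := m) (r := r) (by rw [hr]; group)
      (by rw [mem_centralizer_iff.mp hrZ.2 f hf, mul_inv_cancel_right]) hrM
    calc m * f = f * m * f⁻¹ * f := by rw [h]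
      _ = f * m := by group
  have hDZW : D ⊔ bZ p F = bW p F := by
    rcases hirr (D ⊔ bZ p F) le_sup_right (sup_le hDW inf_le_left)
        (Coprime.le_normalizer_of_conj_mem fun f hf x hx => by
          have : (D ⊔ bZ p F).map (MulAut.conj f).toMonoidHom ≤ D ⊔ bZ p F := by
            rw [Subgroup.map_sup]
            refine sup_le_sup ?_ ?_ <;> rintro _ ⟨y, hy, rfl⟩
            · exact (conj_mem_iff (hFD hf) y).mpr hy
            · exact (conj_mem_iff (hZn hf) y).mpr hy
          exact this ⟨x, hx, rfl⟩) with h | h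
    · exact absurd (le_sup_left.trans h.le) hDne
    · exact h
  have hMFE : bM p F ≤ E := by
    refine le_trans ?_ (hDM.trans (bM_le_self E))
    rw [bM, commutator_le]
    intro w hw f hf
    have hw' : w ∈ ((D ⊔ bZ p F : Subgroup G) : Set G) := hDZW.ge hw
    rw [coe_mul_of_left_le_normalizer_right _ _ (fun d hd =>
      hZn ((bW_le_self F) (hDW hd)))] at hw'
    obtain ⟨d, hd, z, hz, rfl⟩ := hw'
    beta_reduce at *
    have hze : z * f = f * z := (mem_centralizer_iff.mp hz.2 f hf).symm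
    have e : ⁅d * z, f⁆ = d * (f * d⁻¹ * f⁻¹) := by
      rw [commutatorElement_def]
      calc d * z * f * (d * z)⁻¹ * f⁻¹ = d * (z * f) * z⁻¹ * d⁻¹ * f⁻¹ := by group
        _ = _ := by rw [hze]; group
    rw [e]
    exact mul_mem hd ((conj_mem_iff (hFD hf) _).mpr (inv_mem hd))
  have hfac := block_le_sup_centralizer hG hE hF hFN
  -- the part centralising `E`
  set R := pCore p G
  set X := bQ p F ⊓ (R ⊓ centralizer (E : Set G)) with hX
  have hcentN : normalizer (E : Set G) ≤ normalizer (centralizer (E : Set G) : Set G) := by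
    refine Coprime.le_normalizer_of_conj_mem fun g hg c hc => ?_
    rw [mem_centralizer_iff]
    intro e he
    have h := mem_centralizer_iff.mp hc _ ((conj_mem_iff (inv_mem hg) e).mpr he)
    calc e * (g * c * g⁻¹) = g * ((g⁻¹ * e * g⁻¹⁻¹) * c) * g⁻¹ := by group
      _ = g * c * g⁻¹ * e := by rw [h]; group
  have hXn : ∀ Y : Subgroup G, Y ≤ normalizer (F : Set G) → Y ≤ normalizer (E : Set G) →
      Y ≤ normalizer (X : Set G) := fun Y hYF hYE => by
    refine Coprime.le_normalizer_of_conj_mem fun g hg x hx => ⟨?_, ?_, ?_⟩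
    · exact (conj_mem_iff ((le_normalizer_section (p := p) F hYF).1 hg) x).mpr hx.1
    · exact (inferInstance : (pCore p G).Normal).conj_mem x hx.2.1 g
    · exact (conj_mem_iff (hcentN (hYE hg)) x).mpr hx.2.2
  have hXQ : X ≤ bQ p F := inf_le_left
  have hXW : X ⊓ bW p F ≤ bZ p F := by
    have hFX := hXn F le_normalizer hFN
    rcases hirr ((X ⊓ bW p F) ⊔ bZ p F) le_sup_right (sup_le inf_le_right inf_le_left)
        (Coprime.le_normalizer_of_conj_mem fun f hf x hx => by
          have : ((X ⊓ bW p F) ⊔ bZ p F).map (MulAut.conj f).toMonoidHom ≤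
              (X ⊓ bW p F) ⊔ bZ p F := by
            rw [Subgroup.map_sup]
            refine sup_le_sup ?_ ?_ <;> rintro _ ⟨y, hy, rfl⟩
            · exact ⟨(conj_mem_iff (hFX hf) y).mpr hy.1, (conj_mem_iff (hWn hf) y).mpr hy.2⟩
            · exact (conj_mem_iff (hZn hf) y).mpr hy
          exact this ⟨x, hx, rfl⟩) with h | h
    · exact le_sup_left.trans h.le
    exfalso
    -- then `M_F` would be centralised by `F`
    have hMc : bM p F ≤ centralizer (E : Set G) := by
      rw [bM, commutator_le]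
      intro w hw f hf
      have hw' : w ∈ (((X ⊓ bW p F) ⊔ bZ p F : Subgroup G) : Set G) := h.ge hw
      rw [coe_mul_of_left_le_normalizer_right (X ⊓ bW p F) (bZ p F)
        ((inf_le_right.trans (bW_le_self F)).trans hZn)] at hw'
      obtain ⟨d, hd₀, z, hz, rfl⟩ := hw'
      beta_reduce at *
      have hd : d ∈ X ⊓ bW p F := hd₀
      have hze : z * f = f * z := (mem_centralizer_iff.mp hz.2 f hf).symm
      have e : ⁅d * z, f⁆ = d * (f * d⁻¹ * f⁻¹) := by
        rw [commutatorElement_def]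
        calc d * z * f * (d * z)⁻¹ * f⁻¹ = d * (z * f) * z⁻¹ * d⁻¹ * f⁻¹ := by group
          _ = _ := by rw [hze]; group
      rw [e]
      exact mul_mem hd.1.2.2 ((conj_mem_iff (hcentN (hFN hf)) _).mpr (inv_mem hd.1.2.2))
    have hFfix : F ≤ centralizer (bM p F : Set G) := by
      conv_lhs => rw [← hFb.eq_closure]
      rw [closure_le]
      rintro f ⟨hf, hfo⟩
      obtain ⟨e, he, d, hd, -, rfl⟩ := hfac f hf hfo
      refine mem_centralizer_iff.mpr fun m hm => ?_
      exact ((show Commute m e from (mem_centralizer_iff.mp (hMc hm) e he).symm).mul_right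
        (show Commute m d from mem_centralizer_iff.mp hd m (hMFE hm))).eq
    refine not_bM_le_bZ hFb ?_
    have h1 := bM_commutator hFb
    rw [commutator_eq_bot_iff_le_centralizer.mpr (Subgroup.le_centralizer_iff.mp hFfix)] at h1
    rw [← h1]; exact bot_le
  have hXleW : X ≤ bW p F := by
    by_cases hQW : bQ p F = bW p F
    · exact hQW ▸ hXQ
    obtain ⟨-, ⟨hirr', -, -⟩, -, -, -⟩ := hFb.exceptional hQW
    have hFX := hXn F le_normalizer hFN
    rcases hirr' (X ⊔ bW p F) le_sup_right (sup_le hXQ (bW_le F))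
        (Coprime.le_normalizer_of_conj_mem fun f hf x hx => by
          have : (X ⊔ bW p F).map (MulAut.conj f).toMonoidHom ≤ X ⊔ bW p F := by
            rw [Subgroup.map_sup]
            refine sup_le_sup ?_ ?_ <;> rintro _ ⟨y, hy, rfl⟩
            · exact (conj_mem_iff (hFX hf) y).mpr hy
            · exact (conj_mem_iff (hWn hf) y).mpr hy
          exact this ⟨x, hx, rfl⟩) with h | h
    · exact le_sup_left.trans h.le
    · exact (no_split hG hF hQW hXQ
        (hXn _ (BTBlock.baumann_le_normalizer hF) (BTBlock.baumann_le_normalizer hE)) h.ge hXW).elim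
  conv_lhs => rw [← hFb.eq_closure]
  rw [closure_le]
  rintro f ⟨hf, hfo⟩
  obtain ⟨e, he, d, hd, hdo, rfl⟩ := hfac f hf hfo
  have hRp : IsPGroup p R := PSolvable.pCore_isPGroup
  have hdE : ∀ y ∈ E, d * y * d⁻¹ = y := fun y hy => by
    rw [← mem_centralizer_iff.mp hd y hy, mul_inv_cancel_right]
  -- `[u, f] = [u, d]` on `C_R(E)`
  have hconj : ∀ {y : G}, y ∈ centralizer (E : Set G) →
      (e * d) * y * (e * d)⁻¹ = d * y * d⁻¹ := fun {y} hy => by
    have h : d * y * d⁻¹ ∈ centralizer (E : Set G) := mul_mem (mul_mem hd hy) (inv_mem hd)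
    calc (e * d) * y * (e * d)⁻¹ = (e * (d * y * d⁻¹)) * e⁻¹ := by group
      _ = d * y * d⁻¹ := by rw [mem_centralizer_iff.mp h e he, mul_inv_cancel_right]
  have hstep : ∀ u ∈ R ⊓ centralizer (E : Set G), d * u * d⁻¹ = u := by
    intro u hu
    set x := u⁻¹ * (d * u * d⁻¹) with hx
    have hxX : x ∈ X := by
      have h1 : x ∈ R :=
        mul_mem (inv_mem hu.1) ((inferInstance : (pCore p G).Normal).conj_mem u hu.1 d)
      have h2 : x ∈ centralizer (E : Set G) :=
        mul_mem (inv_mem hu.2) (mul_mem (mul_mem hd hu.2) (inv_mem hd))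
      suffices h0 : x ∈ bQ p F from ⟨h0, h1, h2⟩
      rw [hx, ← hconj hu.2]
      have h := (hFb.commutator_mem_bQ hf (inv_mem hu.1)).2
      rw [commutatorElement_def] at h
      convert h using 1
      group
    have hxW := hXleW hxX
    set y := x⁻¹ * (d * x * d⁻¹) with hy
    have hyE : y ∈ E := by
      apply hMFE
      rw [hy, ← hconj hxX.2.2]
      have h := commutator_mem_commutator (inv_mem hxW) hf
      rw [commutatorElement_def] at h
      convert h using 1
      group
    have hyR : y ∈ R :=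
      mul_mem (inv_mem hxX.2.1) ((inferInstance : (pCore p G).Normal).conj_mem x hxX.2.1 d)
    have hxfix := fix_of_step hRp hdo (x := x) (r := y) (by rw [hy]; group) (hdE y hyE) hyR
    exact fix_of_step hRp hdo (x := u) (r := x) (by rw [hx]; group) hxfix hxX.2.1
  have hfix : ∀ u ∈ R, d * u * d⁻¹ = u := by
    intro u hu
    set x := u⁻¹ * (d * u * d⁻¹) with hx
    have hxR : x ∈ R :=
      mul_mem (inv_mem hu) ((inferInstance : (pCore p G).Normal).conj_mem u hu d)
    have hxC : x ∈ centralizer (E : Set G) := by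
      rw [mem_centralizer_iff]
      intro y hy
      have huE : u⁻¹ ∈ normalizer (E : Set G) := inv_mem (hEb.pCore_le_normalizer hu)
      set z := u * y * u⁻¹ with hz
      have hzE : z ∈ E := (conj_mem_iff (hEb.pCore_le_normalizer hu) y).mpr hy
      have h1 : d * u * d⁻¹ * y * (d * u * d⁻¹)⁻¹ = z := by
        calc d * u * d⁻¹ * y * (d * u * d⁻¹)⁻¹ = d * (u * (d⁻¹ * y * d) * u⁻¹) * d⁻¹ := by group
          _ = d * z * d⁻¹ := by
            rw [show d⁻¹ * y * d = y by
              conv_lhs => rw [← hdE y hy]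
              group, hz]
          _ = z := hdE z hzE
      have h2 : x * y * x⁻¹ = y := by
        calc x * y * x⁻¹ = u⁻¹ * (d * u * d⁻¹ * y * (d * u * d⁻¹)⁻¹) * u := by rw [hx]; group
          _ = y := by rw [h1, hz]; group
      calc y * x = x * y * x⁻¹ * x := by rw [h2]
        _ = x * y := by group
    exact fix_of_step hRp hdo (x := u) (r := x) (by rw [hx]; group) (hstep x ⟨hxR, hxC⟩) hxR
  have hd1 : d = 1 := eq_one_of_centralizes hG hRp hdo hfix fun u hu => by
    rw [hfix u hu, inv_mul_cancel]; exact one_mem _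
  rw [hd1, mul_one]
  exact he

end Cfsg.Agent.Lib.BTBlock.Subn
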