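import Cfsg.Agent.Lib.BTBlock.Subn.Complement
import Cfsg.Agent.Lib.AltAut.Main
import Mathlib.GroupTheory.SpecificGroups.Cyclic

/-!
# Operators on the permutation module of a block
-/

set_option autoImplicit false

namespace Cfsg.Agent.Lib.BTBlock.Subn

open Subgroup Cfsg Sub
open scoped commutatorElement

universe u

variable {G : Type u} [Group G] [Finite G] {p : ℕ} [Fact p.Prime] {E : Subgroup G}

/-- The elements of `N(E)` centralising `M`. -/
abbrev bC (p : ℕ) (E : Subgroup G) : Subgroup G :=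
  normalizer (E : Set G) ⊓ centralizer (bM p E : Set G)

theorem le_normalizer_bC : normalizer (E : Set G) ≤ normalizer (bC p E : Set G) := by
  refine Coprime.le_normalizer_of_conj_mem fun g hg c hc => ⟨(normalizer (E : Set G)).mul_mem
    ((normalizer (E : Set G)).mul_mem hg hc.1) ((normalizer (E : Set G)).inv_mem hg), ?_⟩
  show g * c * g⁻¹ ∈ centralizer (bM p E : Set G)
  have hM := le_normalizer_bM (p := p) (E := E) (X := normalizer (E : Set G)) le_rfl
  rw [mem_centralizer_iff]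
  intro m hm
  have hm' : g⁻¹ * m * g⁻¹⁻¹ ∈ bM p E := (conj_mem_iff (hM (inv_mem hg)) m).mpr hm
  have h := mem_centralizer_iff.mp hc.2 _ hm'
  calc m * (g * c * g⁻¹) = g * ((g⁻¹ * m * g⁻¹⁻¹) * c) * g⁻¹ := by group
    _ = g * c * g⁻¹ * m := by rw [h]; group

theorem mem_sup_bC_iff {g : G} : g ∈ E ⊔ bC p E ↔ ∃ e ∈ E, e⁻¹ * g ∈ bC p E := by
  have hn : E ≤ normalizer (bC p E : Set G) := le_normalizer.trans le_normalizer_bC
  constructor
  · intro hg
    have hg' : g ∈ ((E ⊔ bC p E : Subgroup G) : Set G) := hg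
    rw [coe_mul_of_left_le_normalizer_right _ _ hn] at hg'
    obtain ⟨e, he, c, hc, rfl⟩ := hg'
    exact ⟨e, he, by rw [inv_mul_cancel_left]; exact hc⟩
  · rintro ⟨e, he, hc⟩
    rw [show g = e * (e⁻¹ * g) by group]
    exact mul_mem_sup he hc

/-- `N(E)` induces on the permutation module only permutations; commutators are inner. -/
theorem perm_exists_inner {m : ℕ} (hE : IsBlock 2 E) (hm : 1 ≤ m)
    (hact : ActsAsOddPermModuleOnSection (2 * m + 1) (alternatingGroup (Fin (2 * m + 1))) E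
      (bW 2 E) (bZ 2 E))
    {a b : G} (ha : a ∈ normalizer (E : Set G)) (hb : b ∈ normalizer (E : Set G)) :
    ⁅a, b⁆ ∈ E ⊔ bC 2 E := by
  classical
  obtain ⟨hEU, -, ρ, ψ, hr, heven, hall, hker, hequiv⟩ := hact
  set o : Fin (2 * m + 1) := 0 with ho
  obtain ⟨hNQ, hNW, hNZ⟩ := le_normalizer_section (p := 2) E (X := normalizer (E : Set G)) le_rfl
  have hψ : ∀ (e : E) {w : G} (hw : w ∈ bW 2 E) (hw' : (e : G) * w * (e : G)⁻¹ ∈ bW 2 E)
      (i : Fin (2 * m + 1)), Multiplicative.toAdd (ψ ⟨_, hw'⟩) i =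
        Multiplicative.toAdd (ψ ⟨w, hw⟩) ((ρ e)⁻¹ i) := fun e w hw hw' i => by
    obtain ⟨w', hw2, h⟩ := hequiv e ⟨w, hw⟩
    rw [show (⟨_, hw'⟩ : bW 2 E) = w' from Subtype.ext hw2.symm]
    exact h i
  have hψeq : ∀ {w w' : G} (hw : w ∈ bW 2 E) (hw' : w' ∈ bW 2 E),
      ψ ⟨w, hw⟩ = ψ ⟨w', hw'⟩ ↔ w * w'⁻¹ ∈ bZ 2 E := fun {w w'} hw hw' => by
    rw [← mul_inv_eq_one, ← map_inv, ← map_mul, hker]
    rfl
  have hQρ : ∀ e : E, ρ e = 1 ↔ (e : G) ∈ bQ 2 E := by
    intro e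
    constructor
    · intro h
      refine hE.section_W.2.1 e e.2 fun w hw => ?_
      have hw' := (conj_mem_iff (hEU e.2) w).mpr hw
      exact (hψeq hw' hw).mp (Multiplicative.toAdd.injective (funext fun i => by
        rw [hψ e hw hw', h, inv_one, Equiv.Perm.one_apply]))
    · intro h
      rw [← inv_eq_one]
      refine Equiv.ext fun i => ?_
      have hs : ∑ j, ((1 : Fin (2 * m + 1) → ZMod 2) + Pi.single i 1 : Fin (2 * m + 1) → ZMod 2) j = 0 := by
        simp only [Pi.add_apply, Pi.one_apply, Finset.sum_add_distrib, Finset.sum_const,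
          Finset.card_univ, Fintype.card_fin, Finset.sum_pi_single', Finset.mem_univ, if_true,
          nsmul_eq_mul, mul_one, Nat.cast_add, Nat.cast_mul, Nat.cast_one, Nat.cast_ofNat]
        rw [show ((2 : ZMod 2)) = 0 from rfl]
        ring_nf
        rfl
      obtain ⟨⟨w, hw⟩, hv⟩ := hall _ hs
      have hw' := (conj_mem_iff (hEU e.2) w).mpr hw
      have h1 := hψ e hw hw' i
      simp only [commute_bW hw h, mul_inv_cancel_right] at h1
      rw [hv] at h1
      by_contra hne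
      simp only [Pi.add_apply, Pi.one_apply, Pi.single_eq_same, Equiv.Perm.one_apply] at h1 hne
      rw [Pi.single_eq_of_ne hne] at h1
      simp at h1
  -- the induced automorphisms
  have hlift : ∀ π : alternatingGroup (Fin (2 * m + 1)), ∃ e : E, ρ e = π := fun π => hr.ge π.2
  choose pre hpre using hlift
  let cjE : ∀ {g : G}, g ∈ normalizer (E : Set G) → E → E := fun {g} hg e =>
    ⟨g * e * g⁻¹, (conj_mem_iff hg _).mpr e.2⟩
  have hwd : ∀ {g : G} (hg : g ∈ normalizer (E : Set G)) (e e' : E), ρ e = ρ e' →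
      ρ (cjE hg e) = ρ (cjE hg e') := fun {g} hg e e' h => by
    rw [← inv_mul_eq_one, ← map_inv, ← map_mul, hQρ]
    have h1 : ((e⁻¹ * e' : E) : G) ∈ bQ 2 E := (hQρ _).mp (by rw [map_mul, map_inv, h, inv_mul_cancel])
    rw [coe_mul, coe_inv] at h1
    have h2 := (conj_mem_iff (hNQ hg) _).mpr h1
    rw [coe_mul, coe_inv]
    show (g * (e : G) * g⁻¹)⁻¹ * (g * (e' : G) * g⁻¹) ∈ bQ 2 E
    convert h2 using 1
    group
  have haut : ∀ {g : G} (hg : g ∈ normalizer (E : Set G)), ∃ α : MulAut (alternatingGroup (Fin (2 * m + 1))),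
      ∀ e : E, ρ (cjE hg e) = (α ⟨ρ e, hr.le ⟨e, rfl⟩⟩ : alternatingGroup (Fin (2 * m + 1))) := by
    intro g hg
    let f : alternatingGroup (Fin (2 * m + 1)) →* alternatingGroup (Fin (2 * m + 1)) :=
      MonoidHom.mk' (fun π => ⟨ρ (cjE hg (pre π)), hr.le ⟨_, rfl⟩⟩) fun π π' => Subtype.ext (by
        show ρ (cjE hg (pre (π * π'))) = ρ (cjE hg (pre π)) * ρ (cjE hg (pre π'))
        rw [hwd hg (pre (π * π')) (pre π * pre π') (by rw [map_mul, hpre, hpre, hpre, coe_mul]),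
          ← map_mul]
        congr 1
        refine Subtype.ext ?_
        simp only [cjE, coe_mul]
        group)
    have hinj : Function.Injective f := (injective_iff_map_eq_one f).mpr fun π h => by
      have h1 : ρ (cjE hg (pre π)) = 1 := congrArg Subtype.val h
      rw [hQρ] at h1
      exact Subtype.ext ((hpre π).symm.trans ((hQρ _).mpr ((conj_mem_iff (hNQ hg) _).mp h1)))
    refine ⟨MulEquiv.ofBijective f (Finite.injective_iff_bijective.mp hinj), fun e => ?_⟩
    exact hwd hg e _ (hpre ⟨ρ e, hr.le ⟨e, rfl⟩⟩).symm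
  obtain ⟨αa, hαa⟩ := haut ha
  obtain ⟨αb, hαb⟩ := haut hb
  obtain ⟨τ, hτ⟩ : ∃ τ : alternatingGroup (Fin (2 * m + 1)), ∀ π : alternatingGroup (Fin (2 * m + 1)),
      (((αa * αb * αa⁻¹ * αb⁻¹) π : alternatingGroup (Fin (2 * m + 1))) : Equiv.Perm (Fin (2 * m + 1))) =
        τ * π * (τ : Equiv.Perm (Fin (2 * m + 1)))⁻¹ := by
    rcases Nat.lt_or_ge m 2 with hm2 | hm2
    · obtain rfl : m = 1 := by omega
      refine ⟨1, fun π => ?_⟩
      have h3 : Nat.card (alternatingGroup (Fin (2 * 1 + 1))) = 3 := by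
        rw [Nat.card_eq_fintype_card]; rfl
      haveI : Fact (Nat.Prime 3) := ⟨Nat.prime_three⟩
      haveI := isCyclic_of_prime_card h3
      have hc : αa * αb = αb * αa := by
        obtain ⟨i, hi⟩ := MonoidHom.map_cyclic αa.toMonoidHom
        obtain ⟨j, hj⟩ := MonoidHom.map_cyclic αb.toMonoidHom
        refine MulEquiv.ext fun x => ?_
        have hi' : ∀ x, αa x = x ^ i := hi
        have hj' : ∀ x, αb x = x ^ j := hj
        rw [MulAut.mul_apply, MulAut.mul_apply, hj', hi', hj', hi', ← zpow_mul, ← zpow_mul, mul_comm j i]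
      rw [hc, mul_inv_cancel_right, mul_inv_cancel, MulAut.one_apply]
      simp
    · have h4 : 4 ≤ Fintype.card (Fin (2 * m + 1)) := by rw [Fintype.card_fin]; omega
      have h6 : Fintype.card (Fin (2 * m + 1)) ≠ 6 := by rw [Fintype.card_fin]; omega
      obtain ⟨sa, hsa⟩ := AltAut.conjNormal_surjective h4 h6 αa
      obtain ⟨sb, hsb⟩ := AltAut.conjNormal_surjective h4 h6 αb
      refine ⟨⟨⁅sa, sb⁆, ?_⟩, fun π => ?_⟩
      · rw [Equiv.Perm.mem_alternatingGroup, map_commutatorElement, commutatorElement_def,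
          mul_comm (Equiv.Perm.sign sa), mul_inv_cancel_right, mul_inv_cancel]
      · show _ = ⁅sa, sb⁆ * (π : Equiv.Perm (Fin (2 * m + 1))) * ⁅sa, sb⁆⁻¹
        rw [← hsa, ← hsb, ← map_inv, ← map_inv, ← map_mul, ← map_mul, ← map_mul,
          MulAut.conjNormal_apply, commutatorElement_def]
  obtain ⟨t, ht⟩ := hr.ge τ.2
  have hc : ⁅a, b⁆ ∈ normalizer (E : Set G) := by
    rw [commutatorElement_def]
    exact mul_mem (mul_mem (mul_mem ha hb) (inv_mem ha)) (inv_mem hb)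
  have hinv : ∀ {g : G} (hg : g ∈ normalizer (E : Set G)) {α : MulAut (alternatingGroup (Fin (2 * m + 1)))},
      (∀ e : E, ρ (cjE hg e) = (α ⟨ρ e, hr.le ⟨e, rfl⟩⟩ : alternatingGroup (Fin (2 * m + 1)))) →
      ∀ e : E, ρ (cjE (inv_mem hg) e) = (α⁻¹ ⟨ρ e, hr.le ⟨e, rfl⟩⟩ : alternatingGroup (Fin (2 * m + 1))) := by
    intro g hg α hα e
    have h := hα (cjE (inv_mem hg) e)
    have e1 : cjE hg (cjE (inv_mem hg) e) = e := Subtype.ext (by simp only [cjE]; group)
    rw [e1] at h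
    have h' : α ⟨ρ (cjE (inv_mem hg) e), hr.le ⟨_, rfl⟩⟩ = ⟨ρ e, hr.le ⟨e, rfl⟩⟩ := Subtype.ext h.symm
    rw [← h', MulAut.inv_def, MulEquiv.symm_apply_apply]
  have hcom : ∀ e : E, ρ (cjE hc e) = ρ t * ρ e * (ρ t)⁻¹ := by
    intro e
    rw [ht, ← hτ ⟨ρ e, hr.le ⟨e, rfl⟩⟩,
      show cjE hc e = cjE ha (cjE hb (cjE (inv_mem ha) (cjE (inv_mem hb) e))) from
        Subtype.ext (by simp only [cjE, commutatorElement_def]; group), hαa]
    simp only [hαb, hinv ha hαa, hinv hb hαb, MulAut.mul_apply]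
  -- correct by `t`, then move the special vector back
  set g := (t : G)⁻¹ * ⁅a, b⁆ with hgdef
  have hgN : g ∈ normalizer (E : Set G) := mul_mem (inv_mem (le_normalizer t.2)) hc
  have hgρ : ∀ e : E, ρ (cjE hgN e) = ρ e := fun e => by
    rw [show cjE hgN e = t⁻¹ * cjE hc e * t from Subtype.ext (by
      simp only [cjE, hgdef, coe_mul, coe_inv]; group), map_mul, map_mul, map_inv, hcom]
    group
  suffices g ∈ E ⊔ bC 2 E by
    rw [show ⁅a, b⁆ = (t : G) * g by rw [hgdef]; group]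
    exact mul_mem (mem_sup_left t.2) this
  have hn1 : ((2 * m + 1 : ℕ) : ZMod 2) = 1 := by
    rw [Nat.cast_add, Nat.cast_mul, Nat.cast_ofNat, show ((2 : ZMod 2)) = 0 from rfl]
    ring_nf
  have hsum : ∀ i : Fin (2 * m + 1),
      ∑ j, ((1 : Fin (2 * m + 1) → ZMod 2) + Pi.single i 1 : Fin (2 * m + 1) → ZMod 2) j = 0 := fun i => by
    simp only [Pi.add_apply, Pi.one_apply, Finset.sum_add_distrib, Finset.sum_const,
      Finset.card_univ, Fintype.card_fin, Finset.sum_pi_single', Finset.mem_univ, if_true,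
      nsmul_eq_mul, mul_one, hn1]
    decide
  obtain ⟨⟨u, huW⟩, hu⟩ := hall _ (hsum o)
  have huZ : u ∉ bZ 2 E := fun h => by
    obtain ⟨i, hi⟩ : ∃ i : Fin (2 * m + 1), i ≠ o := ⟨⟨1, by omega⟩, by simp [ho, Fin.ext_iff]⟩
    have := congrFun (hu.symm.trans (congrArg Multiplicative.toAdd ((hker ⟨u, huW⟩).mpr h))) i
    simp [hi] at this
  have hguW : g * u * g⁻¹ ∈ bW 2 E := (conj_mem_iff (hNW hgN) u).mpr huW
  set v := Multiplicative.toAdd (ψ ⟨_, hguW⟩) with hv
  have hvinv : ∀ e : E, ρ e o = o → ∀ i, v ((ρ e)⁻¹ i) = v i := by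
    intro e he i
    set e' := cjE (inv_mem hgN) e with he'
    have he'ρ : ρ e' = ρ e := by
      rw [← hgρ e']
      congr 1
      exact Subtype.ext (by simp only [e', cjE]; group)
    have h1 : (e : G) * (g * u * g⁻¹) * (e : G)⁻¹ = g * ((e' : G) * u * (e' : G)⁻¹) * g⁻¹ := by
      simp only [e', cjE]; group
    have heu := (conj_mem_iff (hEU e'.2) u).mpr huW
    have hψu : ψ ⟨_, heu⟩ = ψ ⟨u, huW⟩ := Multiplicative.toAdd.injective (funext fun j => by
      rw [hψ e' huW heu, he'ρ, hu]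
      simp only [Pi.add_apply, Pi.one_apply, Pi.single_apply]
      congr 1
      refine if_congr ?_ rfl rfl
      constructor
      · intro h; rw [← he, ← h]; exact ((ρ e).apply_symm_apply j).symm
      · intro h; rw [h]; exact (Equiv.symm_apply_eq _).mpr he.symm)
    have hz := (conj_mem_iff (hNZ hgN) _).mpr ((hψeq heu huW).mp hψu)
    have hlhs := (conj_mem_iff (hEU e.2) _).mpr hguW
    have h2 : ψ ⟨_, hlhs⟩ = ψ ⟨_, hguW⟩ := (hψeq hlhs hguW).mpr (by
      rw [h1]; convert hz using 1; group)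
    rw [hv, ← hψ e hguW hlhs i, h2]
  have hv0 : v ≠ 0 := fun h => huZ ((conj_mem_iff (hNZ hgN) u).mp ((hker ⟨_, hguW⟩).mp
    (Multiplicative.toAdd.injective h)))
  obtain ⟨e₁, he₁, hcen⟩ : ∃ e₁ : E, v = 1 + Pi.single (ρ e₁ o) 1 ∧
      ∀ e : E, ρ e₁ * ρ e = ρ e * ρ e₁ := by
    have hveven : ∑ i, v i = 0 := heven _
    rcases Nat.lt_or_ge m 2 with hm2 | hm2
    · obtain rfl : m = 1 := by omega
      have h3 : ∀ w : Fin (2 * 1 + 1) → ZMod 2, ∑ i, w i = 0 → w ≠ 0 →
          ∃ π : alternatingGroup (Fin (2 * 1 + 1)),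
            (w = 1 + Pi.single ((π : Equiv.Perm (Fin (2 * 1 + 1))) 0) 1) := by decide
      obtain ⟨π, hπ⟩ := h3 v hveven hv0
      obtain ⟨e₁, he₁⟩ := hr.ge π.2
      refine ⟨e₁, by rw [he₁, ho]; exact hπ, fun e => ?_⟩
      have hcm : ∀ x y : alternatingGroup (Fin (2 * 1 + 1)), x * y = y * x := by decide
      exact congrArg Subtype.val (hcm ⟨ρ e₁, hr.le ⟨e₁, rfl⟩⟩ ⟨ρ e, hr.le ⟨e, rfl⟩⟩)
    · refine ⟨1, ?_, fun e => by rw [map_one, one_mul, mul_one]⟩
      rw [map_one, Equiv.Perm.one_apply]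
      have hconst : ∀ i j, i ≠ o → j ≠ o → v i = v j := by
        intro i j hi hj
        rcases eq_or_ne i j with rfl | hij
        · rfl
        obtain ⟨k, l, hkl, hko, hki, hkj, hlo, hli, hlj⟩ :
            ∃ k l : Fin (2 * m + 1), k ≠ l ∧ k ≠ o ∧ k ≠ i ∧ k ≠ j ∧ l ≠ o ∧ l ≠ i ∧ l ≠ j := by
          have hcard : 1 < (({o, i, j} : Finset (Fin (2 * m + 1)))ᶜ).card := by
            rw [Finset.card_compl, Fintype.card_fin]
            have : ({o, i, j} : Finset (Fin (2 * m + 1))).card ≤ 3 := Finset.card_le_three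
            omega
          obtain ⟨k, hk, l, hl, hkl⟩ := Finset.one_lt_card.mp hcard
          simp only [Finset.mem_compl, Finset.mem_insert, Finset.mem_singleton, not_or] at hk hl
          exact ⟨k, l, hkl, hk.1, hk.2.1, hk.2.2, hl.1, hl.2.1, hl.2.2⟩
        obtain ⟨e, he⟩ := hr.ge (show Equiv.swap i j * Equiv.swap k l ∈ alternatingGroup _ from by
          rw [Equiv.Perm.mem_alternatingGroup, map_mul, Equiv.Perm.sign_swap hij,
            Equiv.Perm.sign_swap hkl, ← sq, Int.units_sq])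
        have h := hvinv e (by
          rw [he, Equiv.Perm.mul_apply, Equiv.swap_apply_of_ne_of_ne hko.symm hlo.symm,
            Equiv.swap_apply_of_ne_of_ne hi.symm hj.symm]) i
        rw [he, mul_inv_rev, Equiv.swap_inv, Equiv.swap_inv, Equiv.Perm.mul_apply,
          Equiv.swap_apply_left, Equiv.swap_apply_of_ne_of_ne hkj.symm hlj.symm] at h
        exact h.symm
      obtain ⟨i, hi⟩ : ∃ i : Fin (2 * m + 1), i ≠ o := ⟨⟨1, by omega⟩, by simp [ho, Fin.ext_iff]⟩
      have hvo : v o = 0 := by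
        rw [← Finset.add_sum_erase _ _ (Finset.mem_univ o),
          Finset.sum_congr rfl fun j hj => hconst j i (Finset.ne_of_mem_erase hj) hi,
          Finset.sum_const, Finset.card_erase_of_mem (Finset.mem_univ o), Finset.card_univ,
          Fintype.card_fin, nsmul_eq_mul, Nat.add_sub_cancel, Nat.cast_mul, Nat.cast_ofNat,
          show ((2 : ZMod 2)) = 0 from rfl, zero_mul, zero_mul, add_zero] at hveven
        exact hveven
      have hvi : v i = 1 := by
        have key : ∀ x : ZMod 2, x ≠ 0 → x = 1 := by decide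
        refine key _ fun h => hv0 (funext fun j => ?_)
        rcases eq_or_ne j o with rfl | hj
        · exact hvo
        · rw [hconst j i hj hi, h]; rfl
      funext j
      rcases eq_or_ne j o with rfl | hj
      · rw [hvo, Pi.add_apply, Pi.single_eq_same]; rfl
      · rw [hconst j i hj hi, hvi, Pi.add_apply, Pi.single_eq_of_ne hj, Pi.one_apply, add_zero]
  set g' := (e₁ : G)⁻¹ * g with hg'
  have hg'N : g' ∈ normalizer (E : Set G) := mul_mem (inv_mem (le_normalizer e₁.2)) hgN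
  rw [mem_sup_bC_iff]
  refine ⟨e₁, e₁.2, hg'N, (trivOn_props hE hg'N ?_).1⟩
  have hg'Q : ∀ e ∈ E, e⁻¹ * (g' * e * g'⁻¹) ∈ bQ 2 E := fun e he => by
    have h1 : ρ ((⟨e, he⟩ : E)⁻¹ * cjE hg'N ⟨e, he⟩) = 1 := by
      rw [show cjE hg'N ⟨e, he⟩ = e₁⁻¹ * cjE hgN ⟨e, he⟩ * e₁ from Subtype.ext (by
        simp only [cjE, g', coe_mul, coe_inv]; group), map_mul, map_mul, map_mul, map_inv, map_inv,
        hgρ, mul_assoc (ρ e₁)⁻¹, ← hcen, inv_mul_cancel_left, inv_mul_cancel]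
    exact (hQρ _).mp h1
  let S : Subgroup G :=
    { carrier := {w | w ∈ bW 2 E ∧ g' * w * g'⁻¹ * w⁻¹ ∈ bZ 2 E}
      one_mem' := ⟨one_mem _, by simp⟩
      mul_mem' := fun {w w'} hw hw' => ⟨mul_mem hw.1 hw'.1, by
        have hgw := (conj_mem_iff (hNW hg'N) w').mpr hw'.1
        have e : g' * (w * w') * g'⁻¹ * (w * w')⁻¹ =
            (g' * w * g'⁻¹ * w⁻¹) * (g' * w' * g'⁻¹ * w'⁻¹) := by
          calc g' * (w * w') * g'⁻¹ * (w * w')⁻¹
              = (g' * w * g'⁻¹) * ((g' * w' * g'⁻¹ * w'⁻¹) * w⁻¹) := by group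
            _ = _ := by rw [comm_omega _ hw'.2.1 (inv_mem hw.1)]; group
        rw [e]; exact mul_mem hw.2 hw'.2⟩
      inv_mem' := fun {w} hw => ⟨inv_mem hw.1, by
        have e : g' * w⁻¹ * g'⁻¹ * w⁻¹⁻¹ = (g' * w * g'⁻¹ * w⁻¹)⁻¹ := by
          calc g' * w⁻¹ * g'⁻¹ * w⁻¹⁻¹ = (g' * w * g'⁻¹)⁻¹ * w := by group
            _ = w * (g' * w * g'⁻¹)⁻¹ :=
              comm_omega _ (inv_mem ((conj_mem_iff (hNW hg'N) w).mpr hw.1)) hw.1
            _ = _ := by group
        rw [e]; exact inv_mem hw.2⟩ }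
  obtain ⟨hirr, -, -⟩ := hE.section_W
  have hSE : E ≤ normalizer (S : Set G) := Coprime.le_normalizer_of_conj_mem fun e he w hw => by
    refine ⟨(conj_mem_iff (hEU he) w).mpr hw.1, ?_⟩
    set q := e⁻¹ * (g' * e * g'⁻¹) with hq
    have hqw : q * (g' * w * g'⁻¹) * q⁻¹ = g' * w * g'⁻¹ := by
      rw [commute_bW ((conj_mem_iff (hNW hg'N) w).mpr hw.1) (hg'Q e he), mul_inv_cancel_right]
    have h2 := (conj_mem_iff (hNZ (le_normalizer he)) _).mpr hw.2
    convert h2 using 1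
    calc g' * (e * w * e⁻¹) * g'⁻¹ * (e * w * e⁻¹)⁻¹
        = e * (q * (g' * w * g'⁻¹) * q⁻¹) * e⁻¹ * (e * w * e⁻¹)⁻¹ := by rw [hq]; group
      _ = e * (g' * w * g'⁻¹ * w⁻¹) * e⁻¹ := by rw [hqw]; group
  have huS : u ∈ S := by
    refine ⟨huW, ?_⟩
    have h1 := (conj_mem_iff (hEU e₁.2) u).mpr huW
    have h2 : ψ ⟨_, hguW⟩ = ψ ⟨_, h1⟩ := Multiplicative.toAdd.injective (by
      rw [← hv, he₁]
      funext j
      rw [hψ e₁ huW h1, hu]
      simp only [Pi.add_apply, Pi.one_apply, Pi.single_apply]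
      congr 1
      refine if_congr ?_ rfl rfl
      constructor
      · intro h; rw [h]; exact (Equiv.symm_apply_apply (ρ e₁) o)
      · intro h; rw [← h]; exact ((ρ e₁).apply_symm_apply j).symm)
    have h3 := (conj_mem_iff (hNZ (inv_mem (le_normalizer e₁.2))) _).mpr ((hψeq hguW h1).mp h2)
    convert h3 using 1
    rw [hg']; group
  rcases hirr S (fun z hz => ⟨hz.1, mul_mem ((conj_mem_iff (hNZ hg'N) z).mpr hz) (inv_mem hz)⟩)
      (fun w hw => hw.1) hSE with h | h
  · exact absurd (h.le huS) huZ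
  · exact fun w hw => (h.ge hw).2

end Cfsg.Agent.Lib.BTBlock.Subn
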