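import Cfsg.Agent.Lib.BTBlock.Sub.Main

/-!
# The module `M = [W, E]` of a block
-/

set_option autoImplicit false

namespace Cfsg.Agent.Lib.BTBlock.Subn

open Subgroup Cfsg Sub
open scoped commutatorElement

universe u

variable {G : Type u} [Group G] [Finite G] {p : ℕ} [Fact p.Prime]

/-- The module `M = [W, E]` of a block. -/
abbrev bM (p : ℕ) (E : Subgroup G) : Subgroup G := ⁅bW p E, E⁆

theorem bM_le_bW (E : Subgroup G) : bM p E ≤ bW p E :=
  Coprime.commutator_le_of_le_normalizer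
    (le_normalizer_section (p := p) E (le_normalizer (H := E))).2.1

theorem bW_le_self (E : Subgroup G) : bW p E ≤ E :=
  ((omegaOneCenter_props p _).1).trans (Amalgam.pCoreOf_le p E)

theorem bM_le_self (E : Subgroup G) : bM p E ≤ E := (bM_le_bW E).trans (bW_le_self E)

theorem le_normalizer_bM {E X : Subgroup G} (hX : X ≤ normalizer (E : Set G)) :
    X ≤ normalizer (bM p E : Set G) :=
  Coprime.le_normalizer_commutator (le_normalizer_section (p := p) E hX).2.1 hX

theorem bM_conj (E : Subgroup G) (g : G) : bM p (cj g E) = cj g (bM p E) := by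
  rw [bM, bW_conj, ← map_commutator]

theorem pow_eq_one_of_mem_omega (X : Subgroup G) {x : G} (hx : x ∈ omegaOneCenter p X) :
    x ^ p = 1 := (omegaOneCenter_props p X).2.2 x hx

theorem comm_omega (X : Subgroup G) {x y : G} (hx : x ∈ omegaOneCenter p X)
    (hy : y ∈ omegaOneCenter p X) : x * y = y * x :=
  mem_centralizer_iff.mp ((omegaOneCenter_props p X).2.1 hy) x ((omegaOneCenter_props p X).1 hx)

/-- `Ω₁(Z(O_p(G)))`. -/
abbrev bU (p : ℕ) (G : Type u) [Group G] : Subgroup G := omegaOneCenter p (pCore p G)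

theorem conj_mem_bU (g : G) {x : G} (hx : x ∈ bU p G) : g * x * g⁻¹ ∈ bU p G := by
  have h : (bU p G).map (MulAut.conj g).toMonoidHom = bU p G := by
    rw [bU, ← omegaOneCenter_map (MulAut.conj g)]
    congr 1
    exact cj_eq_iff.mpr ((normalizer_eq_top (pCore p G)).ge (mem_top g))
  rw [← h]
  exact mem_cj hx

theorem isPGroup_bU  : IsPGroup p (bU p G) :=
  (PSolvable.pCore_isPGroup).to_le (omegaOneCenter_props p _).1

theorem isElementary_bU : IsElementaryAbelian p (bU p G) :=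
  ElemAbelian.of_comm_of_pow (fun _ ha _ hb => comm_omega _ ha hb)
    (fun _ ha => pow_eq_one_of_mem_omega _ ha)

theorem bU_le_sylow (T : Sylow p G) : bU p G ≤ (T : Subgroup G) :=
  ((omegaOneCenter_props p _).1).trans (Amalgam.pCore_le_sylow' T)

variable {E : Subgroup G}

theorem bM_le_bU (hG : centralizer (pCore p G : Set G) ≤ pCore p G) (hE : IsBlock p E) :
    bM p E ≤ bU p G := commutator_section_le hG hE.choose_spec

theorem bM_sup_bZ (hE : IsBlock p E) : bM p E ⊔ bZ p E = bW p E := by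
  obtain ⟨hirr, hfaith, -⟩ := hE.section_W
  obtain ⟨-, -, hEZ⟩ := le_normalizer_section (p := p) E (le_normalizer (H := E))
  have hn : E ≤ normalizer (bM p E : Set G) := le_normalizer_bM le_normalizer
  rcases hirr (bM p E ⊔ bZ p E) le_sup_right (sup_le (bM_le_bW E) inf_le_left)
      (Coprime.le_normalizer_of_conj_mem fun e he x hx => by
        have : (bM p E ⊔ bZ p E).map (MulAut.conj e).toMonoidHom ≤ bM p E ⊔ bZ p E := by
          rw [Subgroup.map_sup]
          refine sup_le_sup ?_ ?_ <;> rintro _ ⟨y, hy, rfl⟩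
          · exact (conj_mem_iff (hn he) y).mpr hy
          · exact (conj_mem_iff (hEZ he) y).mpr hy
        exact this ⟨x, hx, rfl⟩) with h | h
  · exfalso
    apply hE.card_quot_ne_one
    rw [← index_eq_card, index_eq_one, eq_top_iff]
    intro e _
    have hQ : (e : G) ∈ bQ p E := hfaith e e.2 fun w hw => by
      have h1 : ⁅w, (e : G)⁆ ∈ bZ p E :=
        (le_sup_left.trans h.le) (commutator_mem_commutator hw e.2)
      have h2 := inv_mem h1
      rwa [commutatorElement_inv] at h2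
    obtain ⟨e', he', hee⟩ := hQ
    rwa [Subtype.ext hee] at he'
  · exact h

theorem exists_mul_bZ (hE : IsBlock p E) {w : G} (hw : w ∈ bW p E) :
    ∃ m ∈ bM p E, ∃ z ∈ bZ p E, w = m * z := by
  rw [← bM_sup_bZ hE] at hw
  have hc : bM p E ≤ normalizer (bZ p E : Set G) := fun m hm =>
    (le_normalizer_section (p := p) E (le_normalizer (H := E))).2.2 (bM_le_self E hm)
  have hw' : w ∈ ((bM p E ⊔ bZ p E : Subgroup G) : Set G) := hw
  rw [coe_mul_of_left_le_normalizer_right _ _ hc] at hw'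
  obtain ⟨m, hm, z, hz, rfl⟩ := hw'
  exact ⟨m, hm, z, hz, rfl⟩

/-- The commutator of `E` with `M` is all of `M`. -/
theorem bM_commutator (hE : IsBlock p E) : ⁅bM p E, E⁆ = bM p E := by
  refine le_antisymm (commutator_mono (bM_le_bW E) le_rfl) ?_
  rw [bM, commutator_le]
  intro w hw e he
  obtain ⟨m, hm, z, hz, rfl⟩ := exists_mul_bZ hE hw
  have hze : z * e = e * z := (mem_centralizer_iff.mp hz.2 e he).symm
  have : ⁅m * z, e⁆ = ⁅m, e⁆ := by
    simp only [commutatorElement_def]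
    calc m * z * e * (m * z)⁻¹ * e⁻¹ = m * (z * e) * z⁻¹ * m⁻¹ * e⁻¹ := by group
      _ = m * e * m⁻¹ * e⁻¹ := by rw [hze]; group
  rw [this]
  exact commutator_mem_commutator hm he

/-- If `Q = W` then `W = M`. -/
theorem bM_eq_bW (hE : IsBlock p E) (hQW : bQ p E = bW p E) : bM p E = bW p E := by
  conv_rhs => rw [← hQW, ← hE.commutator_core, hQW]

theorem not_bM_le_bZ (hE : IsBlock p E) : ¬ bM p E ≤ bZ p E := by
  intro h
  obtain ⟨-, -, hne⟩ := hE.section_W
  refine hne ?_
  rw [← bM_sup_bZ hE]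
  exact (sup_eq_right.mpr h).symm

/-- An element of `N(E)` trivial on `W / Z` centralises `M`, and commutes with `E` modulo `Q`. -/
theorem trivOn_props (hE : IsBlock p E) {g : G} (hg : g ∈ normalizer (E : Set G))
    (htriv : TrivOn (bW p E) (bZ p E) g) :
    g ∈ centralizer (bM p E : Set G) ∧ ∀ e ∈ E, ⁅g, e⁆ ∈ bQ p E := by
  obtain ⟨hirr, hfaith, -⟩ := hE.section_W
  obtain ⟨hgQ, hgW, hgZ⟩ := le_normalizer_section (p := p) E (X := normalizer (E : Set G)) le_rfl
  obtain ⟨-, hEW, hEZ⟩ := le_normalizer_section (p := p) E (le_normalizer (H := E))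
  have hgt : g ∈ trivSub (bW p E) (bZ p E) := ⟨⟨hgW hg, hgZ hg⟩, htriv⟩
  have hcomm : ∀ e ∈ E, ⁅g, e⁆ ∈ bQ p E := fun e he => by
    have hge : g * e * g⁻¹ ∈ E := (conj_mem_iff hg e).mpr he
    refine hfaith _ (E.mul_mem hge (inv_mem he)) ?_
    have h1 : e * g⁻¹ * e⁻¹ ∈ trivSub (bW p E) (bZ p E) := by
      refine ⟨mul_mem (mul_mem ⟨hEW he, hEZ he⟩ (inv_mem hgt.1)) (inv_mem ⟨hEW he, hEZ he⟩),
        fun w hw => ?_⟩
      have hw' : e⁻¹ * w * e⁻¹⁻¹ ∈ bW p E := (conj_mem_iff (inv_mem (hEW he)) w).mpr hw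
      have h2 := (conj_mem_iff (hEZ he) _).mpr ((inv_mem hgt).2 _ hw')
      convert h2 using 1
      group
    have h2 := (mul_mem hgt h1).2
    convert h2 using 1
    rw [commutatorElement_def]; group
  refine ⟨?_, hcomm⟩
  have hle : bM p E ≤ centralizer ({g} : Set G) := by
    rw [bM, commutator_le]
    intro w hw e he
    rw [mem_centralizer_singleton_iff]
    set z := g * w * g⁻¹ * w⁻¹
    have hz : z ∈ bZ p E := htriv w hw
    set q := e⁻¹ * (g * e * g⁻¹) with hq
    have hqQ : q ∈ bQ p E := by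
      have h1 := (conj_mem_iff (bQ_normal E (inv_mem he)) _).mpr (hcomm e he)
      convert h1 using 1
      rw [hq, commutatorElement_def]; group
    have hzc : ∀ y ∈ E, y * z = z * y := fun y hy => mem_centralizer_iff.mp hz.2 y hy
    have hwE : w ∈ E := bW_le_self E hw
    have hqw : q * w⁻¹ * q⁻¹ = w⁻¹ := by rw [commute_bW (inv_mem hw) hqQ, mul_inv_cancel_right]
    have key : g * ⁅w, e⁆ * g⁻¹ = ⁅w, e⁆ := by
      calc g * ⁅w, e⁆ * g⁻¹
          = (z * w) * (e * q) * (z * w)⁻¹ * (e * q)⁻¹ := by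
            simp only [z, q, commutatorElement_def]; group
        _ = z * (w * (e * q) * w⁻¹) * z⁻¹ * (e * q)⁻¹ := by group
        _ = w * (e * q) * w⁻¹ * (e * q)⁻¹ := by
            rw [← hzc _ (E.mul_mem (E.mul_mem hwE (E.mul_mem he (Amalgam.pCoreOf_le p E hqQ)))
              (E.inv_mem hwE)), mul_inv_cancel_right]
        _ = w * e * (q * w⁻¹ * q⁻¹) * e⁻¹ := by group
        _ = ⁅w, e⁆ := by rw [hqw, commutatorElement_def]
    calc ⁅w, e⁆ * g = g * ⁅w, e⁆ * g⁻¹ * g := by rw [key]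
      _ = g * ⁅w, e⁆ := by group
  rw [mem_centralizer_iff]
  intro m hm
  exact (mem_centralizer_singleton_iff.mp (hle hm))

theorem trivOn_of_centralizes (hE : IsBlock p E) {g : G} (hg : g ∈ normalizer (E : Set G))
    (hc : g ∈ centralizer (bM p E : Set G)) : TrivOn (bW p E) (bZ p E) g := by
  intro w hw
  obtain ⟨m, hm, z, hz, rfl⟩ := exists_mul_bZ hE hw
  obtain ⟨-, -, hgZ⟩ := le_normalizer_section (p := p) E (X := normalizer (E : Set G)) le_rfl
  have h1 : g * z * g⁻¹ * z⁻¹ ∈ bZ p E := mul_mem ((conj_mem_iff (hgZ hg) z).mpr hz) (inv_mem hz)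
  have hmz : m * (g * z * g⁻¹ * z⁻¹) = (g * z * g⁻¹ * z⁻¹) * m :=
    commute_bW h1.1 ((bW_le E) (bM_le_bW E hm))
  have hgm : g * m * g⁻¹ = m := by
    rw [← mem_centralizer_iff.mp hc m hm, mul_inv_cancel_right]
  convert h1 using 1
  calc g * (m * z) * g⁻¹ * (m * z)⁻¹ = (g * m * g⁻¹) * (g * z * g⁻¹ * z⁻¹) * m⁻¹ := by group
    _ = g * z * g⁻¹ * z⁻¹ := by rw [hgm, hmz, mul_inv_cancel_right]

theorem moved_centralizes (hG : centralizer (pCore p G : Set G) ≤ pCore p G) (hE : IsBlock p E)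
    (hEs : E.IsSubnormal) {t : G} (ht : t ∉ normalizer (E : Set G)) {x : G} (hx : x ∈ E) :
    t * x * t⁻¹ ∈ centralizer (E : Set G) := by
  rcases eq_or_commute hG E (cj t E) hE (hE.conj t) hEs (hEs.map (MulAut.conj t).surjective) with h | h
  · exact absurd (cj_eq_iff.mp h.symm) ht
  · exact mem_centralizer_of_comm h (mem_cj hx)

/-- A fixed element of `E` outside `N(E)` centralises `E`. -/
theorem centralizes_of_fixed_moved (hG : centralizer (pCore p G : Set G) ≤ pCore p G)
    (hE : IsBlock p E) (hEs : E.IsSubnormal) {t x : G} (ht : t ∉ normalizer (E : Set G))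
    (hx : x ∈ E) (hfix : t * x = x * t) : x ∈ centralizer (E : Set G) := by
  have h := moved_centralizes hG hE hEs ht hx
  rwa [hfix, mul_inv_cancel_right] at h

end Cfsg.Agent.Lib.BTBlock.Subn
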