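import Cfsg.Agent.Lib.BTBlock.NaturalModules
import Cfsg.Agent.Lib.BTBlock.Basic
import Cfsg.Agent.Lib.LinGroup.BlockDiag

/-!
# A natural module on a section, and the semilinear action of the normaliser
-/

set_option autoImplicit false

namespace Cfsg.Agent.Lib.BTBlock.Subn

open Subgroup Cfsg Matrix Cfsg.Agent.Lib.SL2
open scoped commutatorElement

universe u

variable {G : Type u} [Group G] {F : Type} [Field F]

/-- A natural module of the derived group of `SL₂(F)` on a section. -/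
structure SL2Sec (F : Type) [Field F] (E U Z : Subgroup G) where
  le_norm : E ≤ normalizer (U : Set G)
  le : Z ≤ U
  ρ : E →* SLtwo F
  ψ : U →* Multiplicative (Fin 2 → F)
  range_eq : ρ.range = commutator (SLtwo F)
  surj : Function.Surjective ψ
  ker_iff : ∀ u : U, ψ u = 1 ↔ (u : G) ∈ Z
  equiv : ∀ (e : E) (u : U), ∃ w : U, (w : G) = (e : G) * (u : G) * (e : G)⁻¹ ∧
    Multiplicative.toAdd (ψ w) =
      ((ρ e : SLtwo F) : Matrix (Fin 2) (Fin 2) F).mulVec (Multiplicative.toAdd (ψ u))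

theorem exists_sec {E U Z : Subgroup G}
    (h : ActsAsSL2OnSection F (commutator (SLtwo F)) E U Z) : Nonempty (SL2Sec F E U Z) := by
  obtain ⟨a, b, ρ, ψ, c, d, e, f⟩ := h
  exact ⟨⟨a, b, ρ, ψ, c, d, e, f⟩⟩

variable {E U Z : Subgroup G} (S : SL2Sec F E U Z)

open Classical in
/-- The vector of an element. -/
noncomputable def SL2Sec.val (x : G) : Fin 2 → F :=
  if h : x ∈ U then Multiplicative.toAdd (S.ψ ⟨x, h⟩) else 0

open Classical in
/-- The matrix of an element of `E`. -/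
noncomputable def SL2Sec.mat (x : G) : SLtwo F := if h : x ∈ E then S.ρ ⟨x, h⟩ else 1

theorem SL2Sec.val_eq {x : G} (h : x ∈ U) : S.val x = Multiplicative.toAdd (S.ψ ⟨x, h⟩) := dif_pos h

theorem SL2Sec.val_mul {x y : G} (hx : x ∈ U) (hy : y ∈ U) :
    S.val (x * y) = S.val x + S.val y := by
  rw [S.val_eq hx, S.val_eq hy, S.val_eq (mul_mem hx hy), ← toAdd_mul, ← map_mul]
  rfl

theorem SL2Sec.val_inv {x : G} (hx : x ∈ U) : S.val x⁻¹ = - S.val x := by
  rw [S.val_eq hx, S.val_eq (inv_mem hx), ← toAdd_inv, ← map_inv]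
  rfl

theorem SL2Sec.val_eq_zero {x : G} (hx : x ∈ U) : S.val x = 0 ↔ x ∈ Z := by
  rw [S.val_eq hx]
  exact toAdd_eq_zero.trans (S.ker_iff ⟨x, hx⟩)

theorem SL2Sec.val_eq_iff {x y : G} (hx : x ∈ U) (hy : y ∈ U) :
    S.val x = S.val y ↔ x * y⁻¹ ∈ Z := by
  rw [← S.val_eq_zero (mul_mem hx (inv_mem hy)), S.val_mul hx (inv_mem hy), S.val_inv hy,
    ← sub_eq_add_neg, sub_eq_zero]

theorem SL2Sec.exists_val (v : Fin 2 → F) : ∃ x ∈ U, S.val x = v := by
  obtain ⟨u, hu⟩ := S.surj (Multiplicative.ofAdd v)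
  exact ⟨u, u.2, by rw [S.val_eq u.2, Subtype.coe_eta, hu]; rfl⟩

theorem SL2Sec.mat_eq {x : G} (h : x ∈ E) : S.mat x = S.ρ ⟨x, h⟩ := dif_pos h

theorem SL2Sec.mat_mul {x y : G} (hx : x ∈ E) (hy : y ∈ E) :
    S.mat (x * y) = S.mat x * S.mat y := by
  rw [S.mat_eq hx, S.mat_eq hy, S.mat_eq (mul_mem hx hy), ← map_mul]
  rfl

theorem SL2Sec.mat_mem {x : G} (hx : x ∈ E) : S.mat x ∈ commutator (SLtwo F) := by
  rw [S.mat_eq hx, ← S.range_eq]
  exact ⟨_, rfl⟩

theorem SL2Sec.exists_mat {k : SLtwo F} (hk : k ∈ commutator (SLtwo F)) :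
    ∃ x ∈ E, S.mat x = k := by
  rw [← S.range_eq] at hk
  obtain ⟨e, he⟩ := hk
  exact ⟨e, e.2, by rw [S.mat_eq e.2, Subtype.coe_eta, he]⟩

theorem SL2Sec.val_conj {e x : G} (he : e ∈ E) (hx : x ∈ U) :
    S.val (e * x * e⁻¹) = (S.mat e : Matrix (Fin 2) (Fin 2) F).mulVec (S.val x) := by
  obtain ⟨w, hw, h⟩ := S.equiv ⟨e, he⟩ ⟨x, hx⟩
  rw [S.val_eq hx, S.mat_eq he, ← h, ← hw, S.val_eq w.2, Subtype.coe_eta]

/-- The elements normalising the section and the block. -/
def secNormalizer (E U Z : Subgroup G) : Subgroup G :=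
  normalizer (E : Set G) ⊓ normalizer (U : Set G) ⊓ normalizer (Z : Set G)

/-- The action on the vectors. -/
noncomputable def SL2Sec.act (g : G) (v : Fin 2 → F) : Fin 2 → F :=
  S.val (g * (S.exists_val v).choose * g⁻¹)

variable {g h : G}

theorem SL2Sec.act_val (hg : g ∈ secNormalizer E U Z) {x : G} (hx : x ∈ U) :
    S.act g (S.val x) = S.val (g * x * g⁻¹) := by
  obtain ⟨hy, hyx⟩ := (S.exists_val (S.val x)).choose_spec
  set y := (S.exists_val (S.val x)).choose
  show S.val (g * y * g⁻¹) = _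
  rw [S.val_eq_iff ((conj_mem_iff hg.1.2 y).mpr hy) ((conj_mem_iff hg.1.2 x).mpr hx)]
  have h1 := (conj_mem_iff hg.2 _).mpr ((S.val_eq_iff hy hx).mp hyx)
  convert h1 using 1
  group

theorem SL2Sec.act_add (hg : g ∈ secNormalizer E U Z) (v w : Fin 2 → F) :
    S.act g (v + w) = S.act g v + S.act g w := by
  obtain ⟨x, hx, rfl⟩ := S.exists_val v
  obtain ⟨y, hy, rfl⟩ := S.exists_val w
  rw [← S.val_mul hx hy, S.act_val hg hx, S.act_val hg hy, S.act_val hg (mul_mem hx hy),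
    ← S.val_mul ((conj_mem_iff hg.1.2 x).mpr hx) ((conj_mem_iff hg.1.2 y).mpr hy)]
  congr 1
  group

theorem SL2Sec.act_mul (hg : g ∈ secNormalizer E U Z) (hh : h ∈ secNormalizer E U Z)
    (v : Fin 2 → F) : S.act (g * h) v = S.act g (S.act h v) := by
  obtain ⟨x, hx, rfl⟩ := S.exists_val v
  rw [S.act_val hh hx, S.act_val hg ((conj_mem_iff hh.1.2 x).mpr hx),
    S.act_val (mul_mem hg hh) hx]
  congr 1
  group

theorem SL2Sec.act_one (v : Fin 2 → F) : S.act 1 v = v := by
  obtain ⟨x, hx, rfl⟩ := S.exists_val v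
  rw [S.act_val (one_mem _) hx]
  group

theorem SL2Sec.act_inv_act (hg : g ∈ secNormalizer E U Z) (v : Fin 2 → F) :
    S.act g⁻¹ (S.act g v) = v := by
  rw [← S.act_mul (inv_mem hg) hg, inv_mul_cancel, S.act_one]

theorem SL2Sec.act_act_inv (hg : g ∈ secNormalizer E U Z) (v : Fin 2 → F) :
    S.act g (S.act g⁻¹ v) = v := by
  rw [← S.act_mul hg (inv_mem hg), mul_inv_cancel, S.act_one]

theorem SL2Sec.act_mat (hEZ : E ≤ normalizer (Z : Set G)) {e : G} (he : e ∈ E) (v : Fin 2 → F) :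
    S.act e v = (S.mat e : Matrix (Fin 2) (Fin 2) F).mulVec v := by
  obtain ⟨x, hx, rfl⟩ := S.exists_val v
  rw [S.act_val (show e ∈ secNormalizer E U Z from ⟨⟨le_normalizer he, S.le_norm he⟩, hEZ he⟩) hx,
    S.val_conj he hx]

theorem SL2Sec.act_conj_mat (hEZ : E ≤ normalizer (Z : Set G)) (hg : g ∈ secNormalizer E U Z)
    {e : G} (he : e ∈ E) (v : Fin 2 → F) :
    S.act g ((S.mat e : Matrix (Fin 2) (Fin 2) F).mulVec v) =
      (S.mat (g * e * g⁻¹) : Matrix (Fin 2) (Fin 2) F).mulVec (S.act g v) := by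
  have heN : e ∈ secNormalizer E U Z := ⟨⟨le_normalizer he, S.le_norm he⟩, hEZ he⟩
  have he' : g * e * g⁻¹ ∈ E := (conj_mem_iff hg.1.1 e).mpr he
  rw [← S.act_mat hEZ he, ← S.act_mat hEZ he', ← S.act_mul hg heN,
    ← S.act_mul ⟨⟨le_normalizer he', S.le_norm he'⟩, hEZ he'⟩ hg, inv_mul_cancel_right]

/-- Linear action. -/
def SL2Sec.IsLin (g : G) : Prop :=
  g ∈ secNormalizer E U Z ∧ ∀ (c : F) (v : Fin 2 → F), S.act g (c • v) = c • S.act g v

theorem SL2Sec.isLin_one : S.IsLin 1 := ⟨one_mem _, fun c v => by rw [S.act_one, S.act_one]⟩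

theorem SL2Sec.IsLin.mul {S : SL2Sec F E U Z} {g h : G} (hg : S.IsLin g) (hh : S.IsLin h) :
    S.IsLin (g * h) :=
  ⟨mul_mem hg.1 hh.1, fun c v => by
    rw [S.act_mul hg.1 hh.1, S.act_mul hg.1 hh.1, hh.2, hg.2]⟩

theorem SL2Sec.IsLin.inv {S : SL2Sec F E U Z} {g : G} (hg : S.IsLin g) : S.IsLin g⁻¹ :=
  ⟨inv_mem hg.1, fun c v => by
    have h := congrArg (S.act g⁻¹) (hg.2 c (S.act g⁻¹ v))
    rw [S.act_act_inv hg.1, S.act_inv_act hg.1] at h
    exact h.symm⟩

/-- The matrix of a linear element. -/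
noncomputable def SL2Sec.mx (g : G) : Matrix (Fin 2) (Fin 2) F :=
  Matrix.of fun i j => S.act g (Pi.single j 1) i

theorem SL2Sec.IsLin.act_eq {S : SL2Sec F E U Z} {g : G} (hg : S.IsLin g) (v : Fin 2 → F) :
    S.act g v = (S.mx g).mulVec v := by
  have e : v = v 0 • (Pi.single 0 1 : Fin 2 → F) + v 1 • (Pi.single 1 1 : Fin 2 → F) := by
    funext i; fin_cases i <;> simp
  conv_lhs => rw [e, S.act_add hg.1, hg.2, hg.2]
  funext i
  simp only [SL2Sec.mx, Matrix.mulVec, dotProduct, Fin.sum_univ_two, Matrix.of_apply,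
    Pi.add_apply, Pi.smul_apply, smul_eq_mul]
  ring

theorem SL2Sec.IsLin.mx_mul {S : SL2Sec F E U Z} {g h : G} (hg : S.IsLin g) (hh : S.IsLin h) :
    S.mx (g * h) = S.mx g * S.mx h := by
  refine Matrix.ext_of_mulVec_single fun j => ?_
  rw [← (hg.mul hh).act_eq, ← Matrix.mulVec_mulVec, ← hh.act_eq, ← hg.act_eq,
    S.act_mul hg.1 hh.1]

theorem SL2Sec.mx_one : S.mx 1 = 1 := by
  refine Matrix.ext fun i j => ?_
  show S.act 1 (Pi.single j 1) i = _
  rw [S.act_one, Matrix.one_apply, Pi.single_apply]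

theorem SL2Sec.IsLin.pow {S : SL2Sec F E U Z} {g : G} (hg : S.IsLin g) (n : ℕ) :
    S.IsLin (g ^ n) ∧ S.mx (g ^ n) = S.mx g ^ n := by
  induction n with
  | zero => exact ⟨by rw [pow_zero]; exact S.isLin_one, by rw [pow_zero, pow_zero, S.mx_one]⟩
  | succ n ih => exact ⟨by rw [pow_succ]; exact ih.1.mul hg,
      by rw [pow_succ, pow_succ, ih.1.mx_mul hg, ih.2]⟩

theorem SL2Sec.IsLin.det_ne_zero {S : SL2Sec F E U Z} {g : G} (hg : S.IsLin g) :
    (S.mx g).det ≠ 0 := by
  intro h0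
  have h1 := congrArg Matrix.det (hg.mx_mul hg.inv)
  rw [mul_inv_cancel, S.mx_one, Matrix.det_one, Matrix.det_mul, h0, zero_mul] at h1
  exact one_ne_zero h1

theorem natCast_surjective_of_prime [Fintype F] (hq : (Fintype.card F).Prime) (c : F) :
    ∃ k : ℕ, (k : F) = c := by
  haveI := Fact.mk hq
  obtain ⟨x, rfl⟩ := (ZMod.ringEquivOfPrime F hq rfl).surjective c
  exact ⟨x.val, by rw [← map_natCast (ZMod.ringEquivOfPrime F hq rfl), ZMod.natCast_zmod_val]⟩

theorem eq_top_of_four_le [Fintype F] (hq : 4 ≤ Fintype.card F) :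
    commutator (SLtwo F) = ⊤ := by
  classical
  exact LinGroup.commutator_SL_fin_eq_top le_rfl fun _ => by rw [Nat.card_eq_fintype_card]; exact hq

theorem card_prime_or_four_le [Fintype F] :
    (Fintype.card F).Prime ∨ 4 ≤ Fintype.card F := by
  have h1 : 1 < Fintype.card F := Fintype.one_lt_card
  rcases Nat.lt_or_ge (Fintype.card F) 4 with h | h
  · left
    interval_cases Fintype.card F <;> norm_num
  · exact Or.inr h

/-- Additive maps commuting with the module are scalars. -/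
theorem exists_scalar_of_four_le [Fintype F] (hq : 4 ≤ Fintype.card F)
    (T : (Fin 2 → F) →+ (Fin 2 → F))
    (hT : ∀ k ∈ commutator (SLtwo F), ∀ v, T ((k : Matrix (Fin 2) (Fin 2) F).mulVec v) =
      (k : Matrix (Fin 2) (Fin 2) F).mulVec (T v)) : ∃ c : F, ∀ v, T v = c • v := by
  have hT' : ∀ k : SLtwo F, ∀ v, T ((k : Matrix (Fin 2) (Fin 2) F).mulVec v) =
      (k : Matrix (Fin 2) (Fin 2) F).mulVec (T v) := fun k =>
    hT k ((eq_top_of_four_le hq).ge (mem_top k))
  have h0 : ∀ x : F, T ![x, 0] = ![T ![x, 0] 0, 0] := fun x => by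
    have h := congrFun (hT' (upper 1) ![x, 0]) 0
    rw [upper_mulVec, upper_mulVec] at h
    simp at h
    funext i
    fin_cases i
    · simp
    · simpa using h
  set τ : F → F := fun x => T ![x, 0] 0 with hτ
  have h1 : ∀ x : F, T ![0, x] = ![0, τ x] := fun x => by
    have h := hT' (lower 1) ![x, 0]
    rw [lower_mulVec, lower_mulVec] at h
    have e : (![(![x, 0] : Fin 2 → F) 0, 1 * (![x, 0] : Fin 2 → F) 0 + (![x, 0] : Fin 2 → F) 1] :
        Fin 2 → F) = ![x, 0] + ![0, x] := by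
      funext i; fin_cases i <;> simp
    rw [e, map_add] at h
    rw [eq_sub_of_add_eq' h, h0 x]
    funext i
    fin_cases i <;> simp [hτ]
  have h2 : ∀ t x : F, τ (t * x) = t * τ x := fun t x => by
    have h := congrFun (hT' (upper t) ![0, x]) 0
    rw [upper_mulVec, upper_mulVec, h1 x] at h
    have e : (![(![0, x] : Fin 2 → F) 0 + t * (![0, x] : Fin 2 → F) 1, (![0, x] : Fin 2 → F) 1] :
        Fin 2 → F) = ![t * x, 0] + ![0, x] := by
      funext i; fin_cases i <;> simp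
    rw [e, map_add, h1 x] at h
    simpa using h
  refine ⟨τ 1, fun v => ?_⟩
  have e : v = ![v 0, 0] + ![0, v 1] := by funext i; fin_cases i <;> simp
  conv_lhs => rw [e, map_add, h1, h0]
  have a := h2 (v 0) 1
  have b := h2 (v 1) 1
  rw [mul_one] at a b
  funext i
  fin_cases i
  · simp [← hτ]; show τ (v 0) = _; rw [a, mul_comm]
  · simp [b, mul_comm]

/-- Linear maps commuting with the quaternion group are scalars. -/
theorem exists_scalar_of_three [Fintype F] (hq : Fintype.card F = 3)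
    (T : (Fin 2 → F) →+ (Fin 2 → F))
    (hT : ∀ k ∈ commutator (SLtwo F), ∀ v, T ((k : Matrix (Fin 2) (Fin 2) F).mulVec v) =
      (k : Matrix (Fin 2) (Fin 2) F).mulVec (T v)) : ∃ c : F, ∀ v, T v = c • v := by
  have hchar : CharP F 3 := by
    haveI := Fact.mk Nat.prime_three
    exact charP_of_card_eq_prime hq
  have h3 : (3 : F) = 0 := by exact_mod_cast CharP.cast_eq_zero F 3
  have h20 : (2 : F) ≠ 0 := fun h => one_ne_zero (by linear_combination h3 - h : (1 : F) = 0)
  have hlin : ∀ (c : F) v, T (c • v) = c • T v := fun c v => by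
    obtain ⟨k, rfl⟩ := natCast_surjective_of_prime (hq ▸ Nat.prime_three) c
    rw [Nat.cast_smul_eq_nsmul, Nat.cast_smul_eq_nsmul, map_nsmul]
  set a := T ![1, 0] 0 with ha
  set c := T ![1, 0] 1 with hc
  set b := T ![0, 1] 0 with hb
  set d := T ![0, 1] 1 with hd
  have hTv : ∀ v, T v = ![a * v 0 + b * v 1, c * v 0 + d * v 1] := fun v => by
    have e : v = v 0 • ![1, 0] + v 1 • ![0, 1] := by funext i; fin_cases i <;> simp
    conv_lhs => rw [e, map_add, hlin, hlin]
    funext i; fin_cases i <;> simp [ha, hb, hc, hd] <;> ring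
  set k₁ : SLtwo F := ⁅upper (1 : F), lower (1 : F)⁆ with hk₁
  set k₂ : SLtwo F := upper 1 * k₁ * (upper 1)⁻¹ with hk₂
  have m₁ : k₁ ∈ commutator (SLtwo F) := commutator_mem_derived _ _
  have m₂ : k₂ ∈ commutator (SLtwo F) :=
    (inferInstance : (commutator (SLtwo F)).Normal).conj_mem _ m₁ _
  have v₁ : ∀ v : Fin 2 → F, (k₁ : Matrix (Fin 2) (Fin 2) F).mulVec v = ![-v 1, v 0] := fun v => by
    rw [hk₁, commutatorElement_def, upper_inv, lower_inv]
    simp only [Matrix.SpecialLinearGroup.coe_mul, ← Matrix.mulVec_mulVec, upper_mulVec, lower_mulVec]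
    funext i
    fin_cases i <;> simp
    · linear_combination v 0 * h3
    · ring
  have v₂ : ∀ v : Fin 2 → F,
      (k₂ : Matrix (Fin 2) (Fin 2) F).mulVec v = ![v 0 + v 1, v 0 - v 1] := fun v => by
    rw [hk₂, upper_inv]
    simp only [Matrix.SpecialLinearGroup.coe_mul, ← Matrix.mulVec_mulVec, v₁, upper_mulVec]
    funext i
    fin_cases i <;> simp
    · linear_combination (-v 1) * h3
    · ring
  have e1 := hT k₁ m₁ ![1, 0]
  have e2 := hT k₂ m₂ ![1, 0]
  rw [v₁, v₁, hTv, hTv] at e1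
  rw [v₂, v₂, hTv, hTv] at e2
  have p1 := congrFun e1 0
  have p2 := congrFun e1 1
  have p3 := congrFun e2 0
  simp at p1 p2 p3
  have hc0 : c = 0 := by
    refine (mul_eq_zero.mp (?_ : 2 * c = 0)).resolve_left h20
    linear_combination p1 - p3
  have hb0 : b = 0 := by linear_combination p1 - hc0
  refine ⟨a, fun v => ?_⟩
  rw [hTv, hb0, hc0, p2]
  funext i
  fin_cases i <;> simp

theorem SL2Sec.exists_semilinear [Fintype F] (hEZ : E ≤ normalizer (Z : Set G))
    (hg : g ∈ secNormalizer E U Z) :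
    ∃ σ : F ≃+* F, ∀ (c : F) v, S.act g (c • v) = σ c • S.act g v := by
  rcases card_prime_or_four_le (F := F) with hq | hq
  · refine ⟨RingEquiv.refl F, fun c v => ?_⟩
    obtain ⟨k, rfl⟩ := natCast_surjective_of_prime hq c
    rw [RingEquiv.refl_apply, Nat.cast_smul_eq_nsmul, Nat.cast_smul_eq_nsmul]
    exact map_nsmul (AddMonoidHom.mk' (S.act g) (S.act_add hg)) _ _
  · have hsc : ∀ c : F, ∃ d : F, ∀ v, S.act g (c • S.act g⁻¹ v) = d • v := by
      intro c
      refine exists_scalar_of_four_le hq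
        (AddMonoidHom.mk' (fun v => S.act g (c • S.act g⁻¹ v)) fun v w => by
          rw [S.act_add (inv_mem hg), smul_add, S.act_add hg]) fun k hk v => ?_
      obtain ⟨e, he, rfl⟩ := S.exists_mat hk
      show S.act g (c • S.act g⁻¹ _) = _
      have he' : g⁻¹ * e * g⁻¹⁻¹ ∈ E := (conj_mem_iff (inv_mem hg.1.1) e).mpr he
      rw [S.act_conj_mat hEZ (inv_mem hg) he, ← Matrix.mulVec_smul,
        S.act_conj_mat hEZ hg he', show g * (g⁻¹ * e * g⁻¹⁻¹) * g⁻¹ = e by group]
      rfl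
    choose τ hτ using hsc
    set v₀ : Fin 2 → F := ![1, 0]
    have huniq : ∀ a b : F, a • v₀ = b • v₀ → a = b := fun a b h => by
      simpa [v₀] using congrFun h 0
    let σ : F →+* F :=
      { toFun := τ
        map_zero' := huniq _ _ (by
          rw [← hτ, zero_smul, zero_smul]
          exact map_zero (AddMonoidHom.mk' (S.act g) (S.act_add hg)))
        map_one' := huniq _ _ (by rw [← hτ, one_smul, one_smul, S.act_act_inv hg])
        map_add' := fun a b => huniq _ _ (by rw [← hτ, add_smul, S.act_add hg, hτ, hτ, add_smul])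
        map_mul' := fun a b => huniq _ _ (by
          rw [← hτ, mul_smul a b]
          have h := hτ a (S.act g (b • S.act g⁻¹ v₀))
          rw [S.act_inv_act hg] at h
          rw [h, hτ, mul_smul]) }
    refine ⟨RingEquiv.ofBijective σ (Finite.injective_iff_bijective.mp σ.injective), fun c v => ?_⟩
    have h := hτ c (S.act g v)
    rwa [S.act_inv_act hg] at h

theorem SL2Sec.IsLin.conj [Fintype F] {S : SL2Sec F E U Z} (hEZ : E ≤ normalizer (Z : Set G))
    {g b : G} (hg : g ∈ secNormalizer E U Z) (hb : S.IsLin b) : S.IsLin (g * b * g⁻¹) := by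
  obtain ⟨σ, hσ⟩ := S.exists_semilinear hEZ hg
  have hmem : g * b * g⁻¹ ∈ secNormalizer E U Z := mul_mem (mul_mem hg hb.1) (inv_mem hg)
  refine ⟨hmem, fun c v => ?_⟩
  have h1 : ∀ w, S.act (g * b * g⁻¹) w = S.act g (S.act b (S.act g⁻¹ w)) := fun w => by
    rw [S.act_mul (mul_mem hg hb.1) (inv_mem hg), S.act_mul hg hb.1]
  have h2 : S.act g⁻¹ (c • v) = σ.symm c • S.act g⁻¹ v := by
    have h := congrArg (S.act g⁻¹) (hσ (σ.symm c) (S.act g⁻¹ v))
    rw [S.act_inv_act hg, S.act_act_inv hg, RingEquiv.apply_symm_apply] at h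
    exact h.symm
  rw [h1, h1, h2, hb.2, hσ, RingEquiv.apply_symm_apply]

/-- A `p`-element acting linearly is unipotent of determinant one. -/
theorem SL2Sec.IsLin.unipotent {p : ℕ} [Fact p.Prime] [CharP F p] {S : SL2Sec F E U Z} {g : G}
    (hg : S.IsLin g) {r : ℕ} (hr : g ^ p ^ r = 1) :
    (S.mx g).det = 1 ∧ (S.mx g - 1) * (S.mx g - 1) = 0 := by
  have h1 : S.mx g ^ p ^ r = 1 := by rw [← (hg.pow _).2, hr, S.mx_one]
  haveI : ExpChar F p := ExpChar.prime Fact.out
  constructor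
  · have h2 := congrArg Matrix.det h1
    rw [Matrix.det_pow, Matrix.det_one] at h2
    exact iterateFrobenius_inj F p r (by rw [iterateFrobenius_def, iterateFrobenius_def, h2, one_pow])
  · set M := S.mx g - 1 with hM
    have h2 : M ^ p ^ r = 0 := by
      rw [hM, sub_pow_char_pow_of_commute (p := p) _ (Commute.one_right _), h1, one_pow, sub_self]
    have hCH : M * M = M.trace • M - M.det • (1 : Matrix (Fin 2) (Fin 2) F) := by
      ext i j
      fin_cases i <;> fin_cases j <;>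
        simp [Matrix.mul_apply, Fin.sum_univ_two, Matrix.det_fin_two, Matrix.trace_fin_two] <;> ring
    have hdet : M.det = 0 := by
      have := congrArg Matrix.det h2
      rw [Matrix.det_pow, Matrix.det_zero] at this
      exact eq_zero_of_pow_eq_zero this
    rw [hdet, zero_smul, sub_zero] at hCH
    have hk : ∀ k : ℕ, M ^ (k + 1) = M.trace ^ k • M := by
      intro k
      induction k with
      | zero => simp
      | succ k ih => rw [pow_succ, ih, Matrix.smul_mul, hCH, smul_smul, ← pow_succ]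
    obtain ⟨k, hk'⟩ : ∃ k, p ^ r = k + 1 :=
      ⟨p ^ r - 1, (Nat.sub_add_cancel (Nat.one_le_pow _ _ (Fact.out : p.Prime).pos)).symm⟩
    rw [hk', hk] at h2
    rcases smul_eq_zero.mp h2 with h | h
    · rw [hCH, eq_zero_of_pow_eq_zero h, zero_smul]
    · rw [h, zero_mul]

end Cfsg.Agent.Lib.BTBlock.Subn
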