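import Cfsg.Agent.Lib.BTBlock.Subn.Basic
import Cfsg.Agent.Lib.BTBlock.Subn.Section
import Cfsg.Agent.Lib.Coprime.Quotient
import Mathlib.GroupTheory.SpecificGroups.Alternating

/-!
# An invariant piece of `M` avoiding the centre
-/

set_option autoImplicit false

namespace Cfsg.Agent.Lib.BTBlock.Subn

open Subgroup Cfsg Sub Matrix Cfsg.Agent.Lib.SL2
open scoped commutatorElement

universe u

variable {G : Type u} [Group G] [Finite G] {p : ℕ} [Fact p.Prime] {E : Subgroup G}

/-- Commutators with a group of operators which is `p'` modulo its kernel avoid the fixed points. -/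
theorem commutator_inf_centralizer_eq_bot {X R Y : Subgroup G} (hRX : R ≤ X)
    (hXR : X ≤ normalizer (R : Set G)) (hXY : X ≤ normalizer (Y : Set G))
    (hRY : R ≤ centralizer (Y : Set G)) (hRp : IsPGroup p R) (hYp : IsPGroup p Y)
    (hYc : ∀ a ∈ Y, ∀ b ∈ Y, a * b = b * a)
    (hidx : (R.relIndex X).Coprime p) : ⁅Y, X⁆ ⊓ centralizer (X : Set G) = ⊥ := by
  haveI : (R.subgroupOf X).Normal := normal_subgroupOf_of_le_normalizer hXR
  have hcop : (Nat.card ↥(R.subgroupOf X)).Coprime (R.subgroupOf X).index := by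
    obtain ⟨k, hk⟩ := IsPGroup.iff_card.mp hRp
    rw [Nat.card_congr (subgroupOfEquivOfLe hRX).toEquiv, hk]
    exact Nat.Coprime.pow_left k hidx.symm
  obtain ⟨H₀, hH⟩ := exists_left_complement'_of_coprime hcop
  set H := H₀.map X.subtype with hHdef
  have hHX : H ≤ X := map_subtype_le _
  have hHcard : (Nat.card H).Coprime (Nat.card Y) := by
    obtain ⟨k, hk⟩ := IsPGroup.iff_card.mp hYp
    rw [hk, hHdef, Subgroup.card_map_of_injective X.subtype_injective, ← hH.index_eq_card]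
    exact hidx.pow_right k
  have hle : ⁅Y, X⁆ ≤ ⁅Y, H⁆ := by
    rw [commutator_le]
    intro y hy x hx
    obtain ⟨⟨a, r⟩, har⟩ := hH.2 (⟨x, hx⟩ : X)
    have e : ((a : X) : G) * ((r : X) : G) = x := congrArg Subtype.val har
    have hr : y * ((r : X) : G) = ((r : X) : G) * y :=
      mem_centralizer_iff.mp (hRY (mem_subgroupOf.mp r.2)) y hy
    have h1 : ⁅y, ((a : X) : G)⁆ ∈ ⁅Y, H⁆ := commutator_mem_commutator hy ⟨_, a.2, rfl⟩
    convert h1 using 1
    rw [← e, commutatorElement_def, commutatorElement_def]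
    calc y * (((a : X) : G) * ((r : X) : G)) * y⁻¹ * (((a : X) : G) * ((r : X) : G))⁻¹
        = y * ((a : X) : G) * y⁻¹ * (y * ((r : X) : G)) * y⁻¹ * ((r : X) : G)⁻¹ *
            ((a : X) : G)⁻¹ := by group
      _ = _ := by rw [hr]; group
  haveI : IsMulCommutative Y := ⟨⟨fun a b => Subtype.ext (hYc a a.2 b b.2)⟩⟩
  rw [eq_bot_iff, ← Coprime.inf_centralizer_inf_commutator_eq_bot (hHX.trans hXY) hHcard]
  intro z hz
  exact ⟨⟨Coprime.commutator_le_of_le_normalizer (hHX.trans hXY) (hle hz.1),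
    centralizer_le hHX hz.2⟩, hle hz.1⟩

theorem isPGroup_bM (E : Subgroup G) : IsPGroup p (bM p E) :=
  (isPGroup_bQ E).to_le ((bM_le_bW E).trans (bW_le E))

theorem bQ_le_centralizer_bM (E : Subgroup G) : bQ p E ≤ centralizer (bM p E : Set G) := by
  intro q hq
  rw [mem_centralizer_iff]
  intro m hm
  exact (commute_bW (bM_le_bW E hm) hq).symm

/-- No fixed points in `M` if `E / Q` is a `p'`-group. -/
theorem bM_inf_of_coprime (hE : IsBlock p E)
    (hc : (Nat.card (↥E ⧸ pCore p ↥E)).Coprime p) : bM p E ⊓ centralizer (E : Set G) = ⊥ := by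
  have h := commutator_inf_centralizer_eq_bot (Amalgam.pCoreOf_le p E) (bQ_normal E)
    (le_normalizer_bM (p := p) le_normalizer) (bQ_le_centralizer_bM E) (isPGroup_bQ E)
    (isPGroup_bM E) (fun a ha b hb => comm_omega _ (bM_le_bW E ha) (bM_le_bW E hb)) ?_
  · rwa [bM_commutator hE] at h
  · rw [relIndex, show (bQ p E).subgroupOf E = pCore p ↥E from ?_, index_eq_card]
    · exact hc
    · rw [bQ, pCoreOf, subgroupOf, comap_map_eq_self_of_injective E.subtype_injective]

theorem line_or_span {F : Type*} [Field F] {x : Fin 2 → F} (hx : x ≠ 0) (w : Fin 2 → F) :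
    (∃ c : F, w = c • x) ∨ ∀ v : Fin 2 → F, ∃ α β : F, v = α • x + β • w := by
  by_cases hd : x 0 * w 1 - x 1 * w 0 = 0
  · left
    by_cases h0 : x 0 = 0
    · have h1 : x 1 ≠ 0 := fun h1 => hx (by funext i; fin_cases i <;> assumption)
      have hw : w 0 = 0 := by
        rw [h0, zero_mul, zero_sub, neg_eq_zero] at hd
        exact (mul_eq_zero.mp hd).resolve_left h1
      exact ⟨w 1 / x 1, by funext i; fin_cases i <;> simp [h0, hw, h1]⟩
    · refine ⟨w 0 / x 0, ?_⟩
      funext i; fin_cases i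
      · simp [h0]
      · simp only [Fin.mk_one, Pi.smul_apply, smul_eq_mul]
        field_simp
        linear_combination hd
  · refine Or.inr fun v => ⟨(v 0 * w 1 - v 1 * w 0) / (x 0 * w 1 - x 1 * w 0),
      (x 0 * v 1 - x 1 * v 0) / (x 0 * w 1 - x 1 * w 0), ?_⟩
    funext i; fin_cases i
    · simp only [Fin.zero_eta, Pi.add_apply, Pi.smul_apply, smul_eq_mul]
      rw [div_mul_eq_mul_div, div_mul_eq_mul_div, ← add_div, eq_div_iff hd]
      ring
    · simp only [Fin.mk_one, Pi.add_apply, Pi.smul_apply, smul_eq_mul]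
      rw [div_mul_eq_mul_div, div_mul_eq_mul_div, ← add_div, eq_div_iff hd]
      ring

section Linear

variable {F : Type} [Field F] [Fintype F] (S : SL2Sec F E (bW p E) (bZ p E))

theorem le_normalizer_bZ (E : Subgroup G) : E ≤ normalizer (bZ p E : Set G) :=
  (le_normalizer_section (p := p) E (le_normalizer (H := E))).2.2

theorem SL2Sec.mem_bQ_of_mat_one (hE : IsBlock p E) {e : G} (he : e ∈ E) (h : S.mat e = 1) :
    e ∈ bQ p E := by
  refine hE.section_W.2.1 e he fun w hw => ?_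
  have hw' : e * w * e⁻¹ ∈ bW p E := (conj_mem_iff (S.le_norm he) w).mpr hw
  refine (S.val_eq_iff hw' hw).mp ?_
  rw [S.val_conj he hw, h, Matrix.SpecialLinearGroup.coe_one, Matrix.one_mulVec]

theorem SL2Sec.mat_eq_one {e : G} (he : e ∈ bQ p E) : S.mat e = 1 := by
  have heE : e ∈ E := Amalgam.pCoreOf_le p E he
  refine Matrix.SpecialLinearGroup.ext _ _ fun i j => ?_
  have h : (S.mat e : Matrix (Fin 2) (Fin 2) F).mulVec (Pi.single j 1) = Pi.single j 1 := by
    obtain ⟨x, hx, hv⟩ := S.exists_val (Pi.single j 1)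
    rw [← hv, ← S.val_conj heE hx, commute_bW hx he, mul_inv_cancel_right]
  have h' := congrFun h i
  rw [Matrix.mulVec_single_one] at h'
  simpa [Matrix.one_apply, Pi.single_apply] using h'

theorem SL2Sec.exists_val_bM (hE : IsBlock p E) (v : Fin 2 → F) : ∃ m ∈ bM p E, S.val m = v := by
  obtain ⟨w, hw, rfl⟩ := S.exists_val v
  obtain ⟨m, hm, z, hz, rfl⟩ := exists_mul_bZ hE hw
  exact ⟨m, hm, by rw [S.val_mul (bM_le_bW E hm) hz.1, (S.val_eq_zero hz.1).mpr hz, add_zero]⟩

include S in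
/-- In odd characteristic a central involution of the quotient inverts `M`. -/
theorem SL2Sec.bM_inf_of_odd (hE : IsBlock p E) (hp2 : p ≠ 2) (hq : 4 ≤ Fintype.card F) :
    bM p E ⊓ centralizer (E : Set G) = ⊥ := by
  classical
  haveI : Fact (Even (Fintype.card (Fin 2))) := ⟨by simp⟩
  obtain ⟨j, hj, hjm⟩ := S.exists_mat ((eq_top_of_four_le hq).ge (mem_top (-1 : SLtwo F)))
  have hjW : ∀ w ∈ bW p E, j * w * j⁻¹ * w ∈ bZ p E := fun w hw => by
    have hw' : j * w * j⁻¹ ∈ bW p E := (conj_mem_iff (S.le_norm hj) w).mpr hw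
    rw [← S.val_eq_zero (mul_mem hw' hw), S.val_mul hw' hw, S.val_conj hj hw, hjm]
    simp [Matrix.neg_mulVec]
  have hjQ : ∀ e ∈ E, e⁻¹ * (j * e * j⁻¹) ∈ bQ p E := fun e he => by
    have h1 : j * e * j⁻¹ ∈ E := E.mul_mem (E.mul_mem hj he) (E.inv_mem hj)
    refine S.mem_bQ_of_mat_one hE (E.mul_mem (E.inv_mem he) h1) ?_
    have hinv : ∀ {x : G}, x ∈ E → S.mat x⁻¹ = (S.mat x)⁻¹ := fun {x} hx => by
      rw [S.mat_eq hx, S.mat_eq (E.inv_mem hx), ← map_inv]; rfl
    rw [S.mat_mul (E.inv_mem he) h1, S.mat_mul (E.mul_mem hj he) (E.inv_mem hj),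
      S.mat_mul hj he, hinv hj, hinv he, hjm]
    refine Matrix.SpecialLinearGroup.ext _ _ fun a b => ?_
    have hneg : (-1 : SLtwo F)⁻¹ = -1 := inv_eq_of_mul_eq_one_right (by simp)
    rw [hneg]
    have : (S.mat e)⁻¹ * (-1 * S.mat e * -1) = 1 := by simp
    rw [this]
  let Inv : Subgroup G :=
    { carrier := {x | x ∈ bW p E ∧ j * x * j⁻¹ = x⁻¹}
      one_mem' := ⟨one_mem _, by simp⟩
      mul_mem' := fun {a b} ha hb => ⟨mul_mem ha.1 hb.1, by
        rw [show j * (a * b) * j⁻¹ = (j * a * j⁻¹) * (j * b * j⁻¹) by group, ha.2, hb.2,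
          ← _root_.mul_inv_rev, comm_omega _ ha.1 hb.1]⟩
      inv_mem' := fun {a} ha => ⟨inv_mem ha.1, by
        rw [show j * a⁻¹ * j⁻¹ = (j * a * j⁻¹)⁻¹ by group, ha.2]⟩ }
  have hle : bM p E ≤ Inv := by
    rw [bM, commutator_le]
    intro w hw e he
    have hcm : ⁅w, e⁆ ∈ bW p E := bM_le_bW E (commutator_mem_commutator hw he)
    refine ⟨hcm, ?_⟩
    set z := j * w * j⁻¹ * w
    have hz : z ∈ bZ p E := hjW w hw
    set q := e⁻¹ * (j * e * j⁻¹) with hqd
    have hq' : q ∈ bQ p E := hjQ e he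
    have hwE : w ∈ E := bW_le_self E hw
    have hzy : (w⁻¹ * (e * q) * w) * z = z * (w⁻¹ * (e * q) * w) :=
      mem_centralizer_iff.mp hz.2 _ (E.mul_mem (E.mul_mem (E.inv_mem hwE)
        (E.mul_mem he (Amalgam.pCoreOf_le p E hq'))) hwE)
    have hqw : q * w * q⁻¹ = w := by rw [commute_bW hw hq', mul_inv_cancel_right]
    have hew : e * w * e⁻¹ ∈ bW p E := (conj_mem_iff (S.le_norm he) w).mpr hw
    calc j * ⁅w, e⁆ * j⁻¹ = z * (w⁻¹ * (e * q) * w) * z⁻¹ * (e * q)⁻¹ := by
          simp only [z, q, commutatorElement_def]; group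
      _ = w⁻¹ * (e * (q * w * q⁻¹) * e⁻¹) := by rw [← hzy]; group
      _ = (e * w * e⁻¹) * w⁻¹ := by rw [hqw, comm_omega _ (inv_mem hw) hew]
      _ = ⁅w, e⁆⁻¹ := by rw [commutatorElement_def]; group
  rw [eq_bot_iff]
  intro x hx
  have h1 : j * x * j⁻¹ = x⁻¹ := (hle hx.1).2
  rw [mem_centralizer_iff.mp hx.2 j hj, mul_inv_cancel_right] at h1
  have h2 : x ^ 2 = 1 := by
    have := eq_inv_iff_mul_eq_one.mp h1
    rwa [sq]
  rw [Subgroup.mem_bot, ← orderOf_eq_one_iff]
  exact Nat.eq_one_of_dvd_coprimes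
    ((Nat.coprime_primes (Fact.out : p.Prime) Nat.prime_two).mpr hp2)
    (orderOf_dvd_of_pow_eq_one (pow_eq_one_of_mem_omega _ (bM_le_bW E hx.1)))
    (orderOf_dvd_of_pow_eq_one h2)

/-- In characteristic two the fixed points of an invariant Sylow subgroup give the piece. -/
theorem SL2Sec.exists_piece_two (hE : IsBlock p E) (hp : p = 2) (hq : 4 ≤ Fintype.card F)
    [CharP F p] {P : Subgroup G} (hP : IsPGroup p P) (hPE : P ≤ normalizer (E : Set G)) :
    ∃ L X : Subgroup G, L ≤ bM p E ∧ X ≤ E ∧ X ≤ normalizer (L : Set G) ∧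
      L ⊓ centralizer (X : Set G) = ⊥ ∧ P ≤ normalizer (L : Set G) ∧
      (∃ l ∈ L, S.val l ≠ 0) ∧ ∀ l ∈ L, ∀ c : F, ∃ l' ∈ L, S.val l' = c • S.val l := by
  classical
  -- an invariant Sylow subgroup
  letI := Coprime.sylowAction (p := p) hPE
  obtain ⟨T, hT⟩ := hP.nonempty_fixed_point_of_prime_not_dvd_card (Sylow p ↥E)
    (not_dvd_card_sylow p ↥E)
  have hPT : P ≤ normalizer (((T : Subgroup ↥E).map E.subtype : Subgroup G) : Set G) :=
    (Coprime.sylow_fixed_iff hPE T).mp hT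
  set R := (T : Subgroup ↥E).map E.subtype with hR
  have hRE : R ≤ E := map_subtype_le _
  have hRp : IsPGroup p R := T.2.map _
  -- a common fixed vector
  obtain ⟨x₀, hx0, hfix⟩ : ∃ x₀ : Fin 2 → F, x₀ ≠ 0 ∧
      ∀ r ∈ R, (S.mat r : Matrix (Fin 2) (Fin 2) F).mulVec x₀ = x₀ := by
    let act : MulAction R (Fin 2 → F) :=
      { smul := fun r v => (S.mat r : Matrix (Fin 2) (Fin 2) F).mulVec v
        one_smul := fun v => by
          show (S.mat (1 : G) : Matrix (Fin 2) (Fin 2) F).mulVec v = v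
          rw [S.mat_eq_one (one_mem _), Matrix.SpecialLinearGroup.coe_one, Matrix.one_mulVec]
        mul_smul := fun a b v => by
          show (S.mat ((a : G) * b) : Matrix (Fin 2) (Fin 2) F).mulVec v = _
          rw [S.mat_mul (hRE a.2) (hRE b.2), Matrix.SpecialLinearGroup.coe_mul,
            ← Matrix.mulVec_mulVec]
          rfl }
    have hdvd : p ∣ Nat.card (Fin 2 → F) := by
      rw [Nat.card_fun, Nat.card_fin, Nat.card_eq_fintype_card]
      obtain ⟨n, -, hn⟩ := FiniteField.card F p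
      rw [hn, ← pow_mul]
      exact dvd_pow_self p (mul_ne_zero n.ne_zero two_ne_zero)
    obtain ⟨b, hb, hb0⟩ := hRp.exists_fixed_point_of_prime_dvd_card_of_fixed_point (Fin 2 → F) hdvd
      (a := (0 : Fin 2 → F)) (fun r => Matrix.mulVec_zero _)
    exact ⟨b, fun h => hb0 h.symm, fun r hr => hb ⟨r, hr⟩⟩
  have hchar2 : ∀ x : F, x + x = 0 := fun x => by
    have h2 : ((2 : ℕ) : F) = 0 := by
      rw [← hp]; exact CharP.cast_eq_zero F p
    rw [← two_mul]
    rw [show ((2 : F)) = ((2 : ℕ) : F) by norm_num, h2, zero_mul]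
  -- fixers of the vector are involutions modulo `Q`
  have hsq : ∀ k : SLtwo F, (k : Matrix (Fin 2) (Fin 2) F).mulVec x₀ = x₀ → k * k = 1 := by
    intro k hk
    have hdet : k 0 0 * k 1 1 - k 0 1 * k 1 0 = 1 := by
      rw [← Matrix.det_fin_two]; exact k.2
    have e0 := congrFun hk 0
    have e1 := congrFun hk 1
    simp only [Matrix.mulVec, dotProduct, Fin.sum_univ_two] at e0 e1
    have htr : k 0 0 + k 1 1 = 0 := by
      have a : (k 0 0 + k 1 1) * x₀ 0 = 0 := by
        linear_combination (1 - k 1 1) * e0 + k 0 1 * e1 + x₀ 0 * hdet + hchar2 (x₀ 0)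
      have b : (k 0 0 + k 1 1) * x₀ 1 = 0 := by
        linear_combination (1 - k 0 0) * e1 + k 1 0 * e0 + x₀ 1 * hdet + hchar2 (x₀ 1)
      by_contra h
      exact hx0 (by
        funext i; fin_cases i
        · exact (mul_eq_zero.mp a).resolve_left h
        · exact (mul_eq_zero.mp b).resolve_left h)
    have hm : k 1 1 = k 0 0 := by linear_combination htr - hchar2 (k 0 0)
    refine Matrix.SpecialLinearGroup.ext _ _ fun i j => ?_
    rw [hm] at hdet
    fin_cases i <;> fin_cases j <;> simp [Matrix.mul_apply, Fin.sum_univ_two, hm]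
    · linear_combination hdet + hchar2 (k 0 1 * k 1 0)
    · linear_combination hchar2 (k 0 0 * k 0 1)
    · linear_combination hchar2 (k 0 0 * k 1 0)
    · linear_combination hdet + hchar2 (k 0 1 * k 1 0)
  let R₁ : Subgroup ↥E :=
    { carrier := {e | (S.mat e : Matrix (Fin 2) (Fin 2) F).mulVec x₀ = x₀}
      one_mem' := by
        show (S.mat (1 : G) : Matrix (Fin 2) (Fin 2) F).mulVec x₀ = x₀
        rw [S.mat_eq_one (one_mem _), Matrix.SpecialLinearGroup.coe_one, Matrix.one_mulVec]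
      mul_mem' := fun {a b} (ha : (S.mat (a : G) : Matrix (Fin 2) (Fin 2) F).mulVec x₀ = x₀)
          (hb : (S.mat (b : G) : Matrix (Fin 2) (Fin 2) F).mulVec x₀ = x₀) => by
        show (S.mat ((a : G) * b) : Matrix (Fin 2) (Fin 2) F).mulVec x₀ = x₀
        rw [S.mat_mul a.2 b.2, Matrix.SpecialLinearGroup.coe_mul, ← Matrix.mulVec_mulVec, hb, ha]
      inv_mem' := fun {a} (ha : (S.mat (a : G) : Matrix (Fin 2) (Fin 2) F).mulVec x₀ = x₀) => by
        show (S.mat ((a : G)⁻¹) : Matrix (Fin 2) (Fin 2) F).mulVec x₀ = x₀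
        have h1 : S.mat ((a : G)⁻¹) * S.mat (a : G) = 1 := by
          rw [← S.mat_mul (inv_mem a.2) a.2, inv_mul_cancel, S.mat_eq_one (one_mem _)]
        conv_lhs => rw [← ha]
        rw [Matrix.mulVec_mulVec, ← Matrix.SpecialLinearGroup.coe_mul, h1,
          Matrix.SpecialLinearGroup.coe_one, Matrix.one_mulVec] }
  have hR1 : (T : Subgroup ↥E) = R₁ := by
    refine (T.is_maximal' ?_ fun e he => hfix _ ⟨e, he, rfl⟩).symm
    intro e
    have h1 : ((e : G) * e) ∈ bQ p E := S.mem_bQ_of_mat_one hE (E.mul_mem e.1.2 e.1.2) (by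
      rw [S.mat_mul e.1.2 e.1.2]; exact hsq _ e.2)
    obtain ⟨k, hk⟩ := IsPGroup.iff_orderOf.mp (isPGroup_bQ E) ⟨_, h1⟩
    refine ⟨k + 1, Subtype.ext (Subtype.ext ?_)⟩
    have h2 := pow_orderOf_eq_one (⟨_, h1⟩ : bQ p E)
    rw [hk] at h2
    have h3 : ((e : G) * e) ^ p ^ k = 1 := congrArg Subtype.val h2
    show ((e : G)) ^ p ^ (k + 1) = 1
    rwa [pow_succ, mul_comm, pow_mul, hp, sq, ← hp]
  have hmemR : ∀ e ∈ E, (S.mat e : Matrix (Fin 2) (Fin 2) F).mulVec x₀ = x₀ → e ∈ R :=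
    fun e he h => ⟨⟨e, he⟩, hR1.ge h, rfl⟩
  -- a transvection fixing exactly the line
  obtain ⟨t, htE, htv⟩ : ∃ t ∈ E, ∀ v : Fin 2 → F, (S.mat t : Matrix (Fin 2) (Fin 2) F).mulVec v =
      v + (x₀ 0 * v 1 - x₀ 1 * v 0) • x₀ := by
    let k : SLtwo F := ⟨!![1 - x₀ 0 * x₀ 1, x₀ 0 * x₀ 0; -(x₀ 1 * x₀ 1), 1 + x₀ 0 * x₀ 1], by
      rw [Matrix.det_fin_two_of]; ring⟩
    obtain ⟨t, ht, htk⟩ := S.exists_mat ((eq_top_of_four_le hq).ge (mem_top k))
    refine ⟨t, ht, fun v => ?_⟩
    rw [htk]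
    funext i
    fin_cases i <;> simp [k, Matrix.mulVec, dotProduct, Fin.sum_univ_two] <;> ring
  have htR : t ∈ R := hmemR t htE (by rw [htv, mul_comm, sub_self, zero_smul, add_zero])
  -- the fixed points
  set Y := bM p E ⊓ centralizer (R : Set G) with hY
  have hYline : ∀ y ∈ Y, ∃ c : F, S.val y = c • x₀ := by
    intro y hy
    have hyW := bM_le_bW E hy.1
    have h1 : t * y * t⁻¹ = y := by
      rw [mem_centralizer_iff.mp hy.2 t htR, mul_inv_cancel_right]
    have h2 := S.val_conj htE hyW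
    rw [h1, htv, left_eq_add, smul_eq_zero, or_iff_left hx0] at h2
    rcases line_or_span hx0 (S.val y) with h | h
    · exact h
    · exfalso
      obtain ⟨α, β, e⟩ := h ![1, 0]
      obtain ⟨γ, δ, e'⟩ := h ![0, 1]
      have a := congrFun e 0
      have b := congrFun e 1
      have c := congrFun e' 0
      have d := congrFun e' 1
      simp at a b c d
      have : (1 : F) = (α * δ - β * γ) * (x₀ 0 * S.val y 1 - x₀ 1 * S.val y 0) := by
        linear_combination (γ * x₀ 1 + δ * S.val y 1) * a + d - (γ * x₀ 0 + δ * S.val y 0) * b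
      rw [h2, mul_zero] at this
      exact one_ne_zero this
  have hlift : ∀ d : F, ∀ y ∈ bM p E, S.val y = d • x₀ → y ∈ Y := by
    intro d y hy hyv
    refine ⟨hy, mem_centralizer_iff.mpr fun s hs => ?_⟩
    have hyW := bM_le_bW E hy
    have hsE : s ∈ E := hRE hs
    by_cases hs1 : S.mat s = 1
    · exact commute_bW hyW (S.mem_bQ_of_mat_one hE hsE hs1)
    have hk := hfix s hs
    have hkk := hsq _ hk
    -- `(mat s - 1) v` is on the line
    have hN : ∀ v, ∃ c : F, (S.mat s : Matrix (Fin 2) (Fin 2) F).mulVec v + v = c • x₀ := by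
      intro v
      rcases line_or_span hx0 ((S.mat s : Matrix (Fin 2) (Fin 2) F).mulVec v + v) with h | h
      · exact h
      · exfalso
        refine hs1 (Matrix.SpecialLinearGroup.ext _ _ fun i j => ?_)
        obtain ⟨α, β, e⟩ := h (Pi.single j 1)
        have hfw : (S.mat s : Matrix (Fin 2) (Fin 2) F).mulVec
            ((S.mat s : Matrix (Fin 2) (Fin 2) F).mulVec v + v) =
            (S.mat s : Matrix (Fin 2) (Fin 2) F).mulVec v + v := by
          rw [Matrix.mulVec_add, Matrix.mulVec_mulVec, ← Matrix.SpecialLinearGroup.coe_mul, hkk,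
            Matrix.SpecialLinearGroup.coe_one, Matrix.one_mulVec, add_comm]
        have h1 := congrArg (S.mat s : Matrix (Fin 2) (Fin 2) F).mulVec e
        rw [Matrix.mulVec_add, Matrix.mulVec_smul, Matrix.mulVec_smul, hk, hfw, ← e] at h1
        have := congrFun h1 i
        rw [Matrix.mulVec_single_one] at this
        simpa [Matrix.one_apply, Pi.single_apply] using this
    obtain ⟨v, c, hvc, hc0⟩ : ∃ (v : Fin 2 → F) (c : F),
        (S.mat s : Matrix (Fin 2) (Fin 2) F).mulVec v + v = c • x₀ ∧ c ≠ 0 := by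
      by_contra hcon
      push Not at hcon
      refine hs1 (Matrix.SpecialLinearGroup.ext _ _ fun i j => ?_)
      obtain ⟨c, hc⟩ := hN (Pi.single j 1)
      rw [hcon _ _ hc, zero_smul] at hc
      have h1 := congrFun hc i
      rw [Pi.add_apply, Matrix.mulVec_single_one] at h1
      have h2 : (S.mat s : Matrix (Fin 2) (Fin 2) F) i j + (Pi.single j 1 : Fin 2 → F) i = 0 := h1
      rw [Pi.single_apply] at h2
      rw [Matrix.SpecialLinearGroup.coe_one, Matrix.one_apply]
      linear_combination h2 - hchar2 (if i = j then (1 : F) else 0)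
    obtain ⟨m, hm, hmv⟩ := S.exists_val_bM hE ((d / c) • v)
    have hmW := bM_le_bW E hm
    have hms : s * m * s⁻¹ ∈ bW p E := (conj_mem_iff (S.le_norm hsE) m).mpr hmW
    set y' := s * m * s⁻¹ * m with hy'
    have hy'W : y' ∈ bW p E := mul_mem hms hmW
    have hy'v : S.val y' = S.val y := by
      rw [hy', S.val_mul hms hmW, S.val_conj hsE hmW, hmv, Matrix.mulVec_smul, ← smul_add, hvc,
        smul_smul, div_mul_cancel₀ d hc0, hyv]
    have hssQ : s * s ∈ bQ p E := S.mem_bQ_of_mat_one hE (E.mul_mem hsE hsE) (by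
      rw [S.mat_mul hsE hsE, hkk])
    have hfy' : s * y' = y' * s := by
      have h1 : s * s * m = m * (s * s) := commute_bW hmW hssQ
      calc s * y' = (s * s * m) * (s⁻¹ * m) := by rw [hy']; group
        _ = m * (s * s) * (s⁻¹ * m) := by rw [h1]
        _ = (m * (s * m * s⁻¹)) * s := by group
        _ = y' * s := by rw [comm_omega _ hmW hms, hy']
    set z := y * y'⁻¹ with hz
    have hzZ : z ∈ bZ p E := (S.val_eq_iff hyW hy'W).mp hy'v.symm
    have hzs : s * z = z * s := mem_centralizer_iff.mp hzZ.2 s hsE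
    rw [show y = z * y' by rw [hz]; group]
    exact (Commute.mul_right (show Commute s z from hzs) (show Commute s y' from hfy')).eq
  -- the normaliser of the Sylow subgroup
  set N := E ⊓ normalizer (R : Set G) with hN
  have hRN : R ≤ N := le_inf hRE le_normalizer
  have hNY : N ≤ normalizer (Y : Set G) :=
    Coprime.le_normalizer_inf_centralizer (inf_le_left.trans (le_normalizer_bM le_normalizer))
      inf_le_right
  have hidx : (R.relIndex N).Coprime p := by
    have h1 : R.relIndex N ∣ R.relIndex E :=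
      ⟨N.relIndex E, (relIndex_mul_relIndex _ _ _ hRN inf_le_left).symm⟩
    refine Nat.Coprime.coprime_dvd_left h1 ?_
    rw [relIndex, hR, subgroupOf, comap_map_eq_self_of_injective E.subtype_injective]
    exact ((Fact.out : p.Prime).coprime_iff_not_dvd.mpr T.not_dvd_index).symm
  have hbot := commutator_inf_centralizer_eq_bot hRN inf_le_right hNY
    (Subgroup.le_centralizer_iff.mp inf_le_right) hRp ((isPGroup_bM E).to_le inf_le_left)
    (fun a ha b hb => comm_omega _ (bM_le_bW E ha.1) (bM_le_bW E hb.1)) hidx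
  -- an element of `N` moving the line
  obtain ⟨a, ha0, ha1⟩ : ∃ a : F, a ≠ 0 ∧ a ≠ 1 := by
    by_contra hcon
    push Not at hcon
    have : (Finset.univ : Finset F) ⊆ {0, 1} := fun x _ => by
      by_cases hx : x = 0
      · simp [hx]
      · simp [hcon x hx]
    have := (Finset.card_le_card this).trans Finset.card_le_two
    rw [Finset.card_univ] at this
    omega
  obtain ⟨h, hhE, hhv⟩ : ∃ h ∈ E, (S.mat h : Matrix (Fin 2) (Fin 2) F).mulVec x₀ = a • x₀ := by
    have htop := fun k : SLtwo F => (eq_top_of_four_le hq).ge (mem_top k)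
    by_cases h0 : x₀ 0 = 0
    · let k : SLtwo F := ⟨!![a⁻¹, 0; 0, a], by rw [Matrix.det_fin_two_of]; field_simp; ring⟩
      obtain ⟨h, hh, hk⟩ := S.exists_mat (htop k)
      refine ⟨h, hh, ?_⟩
      rw [hk]
      funext i
      fin_cases i <;> simp [k, h0, Matrix.mulVec, dotProduct, Fin.sum_univ_two]
    · let k : SLtwo F := ⟨!![a, 0; (a - a⁻¹) * x₀ 1 / x₀ 0, a⁻¹], by
        rw [Matrix.det_fin_two_of]; field_simp; ring⟩
      obtain ⟨h, hh, hk⟩ := S.exists_mat (htop k)
      refine ⟨h, hh, ?_⟩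
      rw [hk]
      funext i
      fin_cases i <;> simp [k, Matrix.mulVec, dotProduct, Fin.sum_univ_two]
      field_simp
      ring
  have hhN : h ∈ N := by
    refine ⟨hhE, ?_⟩
    have hle : cj h R ≤ R := by
      rintro _ ⟨r, hr, rfl⟩
      show h * r * h⁻¹ ∈ R
      refine hmemR _ (E.mul_mem (E.mul_mem hhE (hRE hr)) (E.inv_mem hhE)) ?_
      rw [S.mat_mul (E.mul_mem hhE (hRE hr)) (E.inv_mem hhE), S.mat_mul hhE (hRE hr),
        Matrix.SpecialLinearGroup.coe_mul, Matrix.SpecialLinearGroup.coe_mul,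
        ← Matrix.mulVec_mulVec, ← Matrix.mulVec_mulVec]
      have hinv : (S.mat h⁻¹ : Matrix (Fin 2) (Fin 2) F).mulVec x₀ = a⁻¹ • x₀ := by
        have h1 : S.mat h⁻¹ * S.mat h = 1 := by
          rw [← S.mat_mul (E.inv_mem hhE) hhE, inv_mul_cancel, S.mat_eq_one (one_mem _)]
        have h2 := congrArg (S.mat h⁻¹ : Matrix (Fin 2) (Fin 2) F).mulVec hhv
        rw [Matrix.mulVec_mulVec, ← Matrix.SpecialLinearGroup.coe_mul, h1,
          Matrix.SpecialLinearGroup.coe_one, Matrix.one_mulVec, Matrix.mulVec_smul] at h2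
        conv_rhs => rw [h2, smul_smul, inv_mul_cancel₀ ha0, one_smul]
      rw [hinv, Matrix.mulVec_smul, hfix r hr, Matrix.mulVec_smul, hhv, smul_smul,
        inv_mul_cancel₀ ha0, one_smul]
    exact Amalgam.mem_normalizer_of_map_conj_eq (eq_of_le_of_card_ge hle
      (le_of_eq (Subgroup.card_map_of_injective (MulAut.conj h).injective).symm))
  set L := ⁅Y, N⁆ with hL
  have hLY : L ≤ Y := Coprime.commutator_le_of_le_normalizer hNY
  have hfull : ∀ d : F, ∃ l ∈ L, S.val l = d • x₀ := by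
    intro d
    obtain ⟨y, hy, hyv⟩ := S.exists_val_bM hE ((d / (1 - a)) • x₀)
    have hyY := hlift _ y hy hyv
    refine ⟨⁅y, h⁆, commutator_mem_commutator hyY hhN, ?_⟩
    have hyW := bM_le_bW E hy
    have hyh : h * y⁻¹ * h⁻¹ ∈ bW p E := (conj_mem_iff (S.le_norm hhE) _).mpr (inv_mem hyW)
    rw [show ⁅y, h⁆ = y * (h * y⁻¹ * h⁻¹) by rw [commutatorElement_def]; group,
      S.val_mul hyW hyh, S.val_conj hhE (inv_mem hyW), S.val_inv hyW, Matrix.mulVec_neg, hyv,
      Matrix.mulVec_smul, hhv, smul_smul, ← sub_eq_add_neg, ← sub_smul]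
    congr 1
    have : (1 : F) - a ≠ 0 := sub_ne_zero.mpr (Ne.symm ha1)
    field_simp
    try ring
  refine ⟨L, N, hLY.trans inf_le_left, inf_le_left, ?_, ?_, ?_, ?_, ?_⟩
  · exact le_normalizer_commutator_right Y N
  · exact hbot
  · refine Coprime.le_normalizer_commutator
      (Coprime.le_normalizer_inf_centralizer (le_normalizer_bM hPE) hPT) ?_
    refine Coprime.le_normalizer_of_conj_mem fun b hb x hx => ⟨(conj_mem_iff (hPE hb) x).mpr hx.1, ?_⟩
    exact (normalizer (R : Set G)).mul_mem ((normalizer (R : Set G)).mul_mem (hPT hb) hx.2)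
      ((normalizer (R : Set G)).inv_mem (hPT hb))
  · obtain ⟨l, hl, hlv⟩ := hfull 1
    exact ⟨l, hl, by rw [hlv, one_smul]; exact hx0⟩
  · intro l hl c
    obtain ⟨d, hd⟩ := hYline l (hLY hl)
    obtain ⟨l', hl', hl'v⟩ := hfull (c * d)
    exact ⟨l', hl', by rw [hl'v, hd, smul_smul]⟩

/-- The piece in the linear case. -/
theorem SL2Sec.exists_piece (hE : IsBlock p E) [CharP F p]
    (hiso : Nonempty (↥E ⧸ pCore p ↥E ≃* ↥(commutator (SLtwo F))))
    {P : Subgroup G} (hP : IsPGroup p P) (hPE : P ≤ normalizer (E : Set G)) :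
    ∃ L X : Subgroup G, L ≤ bM p E ∧ X ≤ E ∧ X ≤ normalizer (L : Set G) ∧
      L ⊓ centralizer (X : Set G) = ⊥ ∧ P ≤ normalizer (L : Set G) ∧
      (∃ l ∈ L, S.val l ≠ 0) ∧ ∀ l ∈ L, ∀ c : F, ∃ l' ∈ L, S.val l' = c • S.val l := by
  classical
  have hmain : bM p E ⊓ centralizer (E : Set G) = ⊥ →
      ∃ L X : Subgroup G, L ≤ bM p E ∧ X ≤ E ∧ X ≤ normalizer (L : Set G) ∧
      L ⊓ centralizer (X : Set G) = ⊥ ∧ P ≤ normalizer (L : Set G) ∧
      (∃ l ∈ L, S.val l ≠ 0) ∧ ∀ l ∈ L, ∀ c : F, ∃ l' ∈ L, S.val l' = c • S.val l := by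
    intro h
    refine ⟨bM p E, E, le_rfl, le_rfl, le_normalizer_bM le_normalizer, h, le_normalizer_bM hPE,
      ?_, fun l _ c => S.exists_val_bM hE _⟩
    obtain ⟨m, hm, hmv⟩ := S.exists_val_bM hE ![1, 0]
    exact ⟨m, hm, by rw [hmv]; intro h; simpa using congrFun h 0⟩
  rcases Nat.lt_or_ge (Fintype.card F) 4 with hq | hq
  · refine hmain (bM_inf_of_coprime hE ?_)
    obtain ⟨n, -, hn⟩ := FiniteField.card F p
    obtain ⟨iso⟩ := hiso
    have h1 : 1 < Fintype.card F := Fintype.one_lt_card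
    rw [Nat.card_congr iso.toEquiv]
    have hp := (Fact.out : p.Prime)
    have hdvd : p ∣ Fintype.card F := hn ▸ dvd_pow_self p n.ne_zero
    rcases (show Fintype.card F = 2 ∨ Fintype.card F = 3 by omega) with h | h
    · rw [card_commutator_SL2_two h]
      rw [h] at hdvd
      rw [(Nat.prime_dvd_prime_iff_eq hp Nat.prime_two).mp hdvd]
      norm_num
    · rw [(isQEight_commutator_SL2 h).1]
      rw [h] at hdvd
      rw [(Nat.prime_dvd_prime_iff_eq hp Nat.prime_three).mp hdvd]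
      norm_num
  · by_cases hp : p = 2
    · exact S.exists_piece_two hE hp hq hP hPE
    · exact hmain (S.bM_inf_of_odd hE hp hq)

end Linear

/-- No fixed points in `M` in the alternating case. -/
theorem bM_inf_of_perm {m : ℕ} (hE : IsBlock 2 E) (hm : 1 ≤ m)
    (hact : ActsAsOddPermModuleOnSection (2 * m + 1) (alternatingGroup (Fin (2 * m + 1))) E
      (bW 2 E) (bZ 2 E)) :
    bM 2 E ⊓ centralizer (E : Set G) = ⊥ := by
  classical
  obtain ⟨hEU, -, ρ, ψ, hr, heven, hall, hker, hequiv⟩ := hact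
  letI : CommGroup (bW 2 E) :=
    { (inferInstance : Group (bW 2 E)) with
      mul_comm := fun a b => Subtype.ext (comm_omega _ a.2 b.2) }
  let cv : E → bW 2 E →* bW 2 E := fun e =>
    { toFun := fun v => ⟨(e : G) * v * (e : G)⁻¹, (conj_mem_iff (hEU e.2) _).mpr v.2⟩
      map_one' := Subtype.ext (by simp)
      map_mul' := fun v w => Subtype.ext (by simp [mul_assoc]) }
  have hψ : ∀ (e : E) (v : bW 2 E) (i : Fin (2 * m + 1)),
      Multiplicative.toAdd (ψ (cv e v)) i = Multiplicative.toAdd (ψ v) ((ρ e)⁻¹ i) := fun e v i => by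
    obtain ⟨w, hw, h⟩ := hequiv e v
    rw [show cv e v = w from Subtype.ext hw.symm]
    exact h i
  set o : Fin (2 * m + 1) := 0 with ho
  have hnum : ((2 * m + 1 : ℕ) : ZMod 2) = 1 := by
    have h2 : ((2 : ℕ) : ZMod 2) = 0 := ZMod.natCast_self 2
    push_cast
    rw [show ((2 : ZMod 2)) = ((2 : ℕ) : ZMod 2) by norm_num, h2, zero_mul, zero_add]
  have hsum : ∀ i : Fin (2 * m + 1),
      ∑ j, ((1 : Fin (2 * m + 1) → ZMod 2) + Pi.single i 1 : Fin (2 * m + 1) → ZMod 2) j = 0 := by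
    intro i
    simp only [Pi.add_apply, Pi.one_apply, Finset.sum_add_distrib, Finset.sum_const,
      Finset.card_univ, Fintype.card_fin, Finset.sum_pi_single', Finset.mem_univ, if_true,
      nsmul_eq_mul, mul_one, hnum]
    decide
  obtain ⟨u, hu⟩ := hall _ (hsum o)
  -- the point stabiliser fixes `u`
  have hQρ : ∀ e : E, ρ e = 1 → (e : G) ∈ bQ 2 E := fun e h => by
    refine hE.section_W.2.1 e e.2 fun w hw => ?_
    have h1 : ψ (cv e ⟨w, hw⟩) = ψ ⟨w, hw⟩ := Multiplicative.toAdd.injective (funext fun i => by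
      rw [hψ, h, inv_one, Equiv.Perm.one_apply])
    have h2 := (hker (cv e ⟨w, hw⟩ * (⟨w, hw⟩)⁻¹)).mp (by rw [map_mul, map_inv, h1, mul_inv_cancel])
    exact h2
  let δ : {e : E // ρ e o = o} → bW 2 E := fun e => cv e.1 u * u⁻¹
  have hδZ : ∀ e, (δ e : G) ∈ bZ 2 E := fun e => (hker _).mp (Multiplicative.toAdd.injective (by
    funext i
    simp only [δ, map_mul, map_inv, toAdd_mul, toAdd_inv, Pi.add_apply, Pi.neg_apply, toAdd_one,
      Pi.zero_apply, hψ, hu, Pi.one_apply, Pi.single_apply]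
    by_cases hi : i = o
    · subst hi
      have : (ρ e.1)⁻¹ o = o := (Equiv.symm_apply_eq _).mpr e.2.symm
      simp [this]
      decide
    · have : (ρ e.1)⁻¹ i ≠ o := fun h => hi (((Equiv.symm_apply_eq _).mp h).trans e.2)
      have this' : (ρ e.1).symm i ≠ o := this
      simp [hi, this']
      decide))
  let fix0 : Subgroup (Equiv.Perm (Fin (2 * m + 1))) :=
    { carrier := {π | π o = o ∧ ∀ e : E, ρ e = π → cv e u = u ∧ π ∈ alternatingGroup _} ∩
        {π | π o = o ∧ π ∈ alternatingGroup _}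
      one_mem' := ⟨⟨rfl, fun e h => ⟨Subtype.ext (by
        show (e : G) * u * (e : G)⁻¹ = u
        rw [commute_bW u.2 (hQρ e h), mul_inv_cancel_right]), one_mem _⟩⟩, rfl, one_mem _⟩
      mul_mem' := fun {a b} ha hb => by
        have hab : (a * b) o = o := by rw [Equiv.Perm.mul_apply, hb.1.1, ha.1.1]
        refine ⟨⟨hab, fun e h => ⟨?_, mul_mem ha.2.2 hb.2.2⟩⟩, hab, mul_mem ha.2.2 hb.2.2⟩
        obtain ⟨ea, hea⟩ := hr.ge ha.2.2
        have hb' : ρ (ea⁻¹ * e) = b := by rw [map_mul, map_inv, hea, h, inv_mul_cancel_left]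
        have h1 := (ha.1.2 ea hea).1
        have h2 := (hb.1.2 _ hb').1
        refine Subtype.ext ?_
        have h1' : (ea : G) * u * (ea : G)⁻¹ = u := congrArg Subtype.val h1
        have h2' : ((ea⁻¹ * e : E) : G) * u * ((ea⁻¹ * e : E) : G)⁻¹ = u := congrArg Subtype.val h2
        rw [coe_mul, coe_inv] at h2'
        show (e : G) * u * (e : G)⁻¹ = u
        calc (e : G) * u * (e : G)⁻¹
            = (ea : G) * (((ea : G)⁻¹ * e) * u * ((ea : G)⁻¹ * e)⁻¹) * (ea : G)⁻¹ := by group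
          _ = u := by rw [h2', h1']
      inv_mem' := fun {a} ha => by
        have hai : a⁻¹ o = o := by conv_lhs => rw [← ha.1.1]; exact a.symm_apply_apply o
        refine ⟨⟨hai, fun e h => ⟨?_, inv_mem ha.2.2⟩⟩, hai, inv_mem ha.2.2⟩
        have h1 := congrArg Subtype.val (ha.1.2 e⁻¹ (by rw [map_inv, h, inv_inv])).1
        refine Subtype.ext ?_
        have h1' : ((e⁻¹ : E) : G) * u * ((e⁻¹ : E) : G)⁻¹ = u := h1
        rw [coe_inv] at h1'
        show (e : G) * u * (e : G)⁻¹ = u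
        conv_lhs => rw [← h1']
        group }
  have hstab : ∀ e : E, ρ e o = o → cv e u = u := by
    intro e he
    suffices ρ e ∈ fix0 from (this.1.2 e rfl).1
    have halt : ρ e ∈ alternatingGroup _ := hr.le ⟨e, rfl⟩
    set σ := (ρ e).subtypePerm (p := fun i => i ≠ o) (fun i => by
      constructor
      · intro h h'; exact h (by rw [h', he])
      · intro h h'; exact h ((ρ e).injective (h'.trans he.symm))) with hσ
    have hσe : Equiv.Perm.ofSubtype σ = ρ e :=
      Equiv.Perm.ofSubtype_subtypePerm _ fun i hi h => hi (by rw [h, he])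
    have hσa : σ ∈ alternatingGroup {i // i ≠ o} := by
      rw [Equiv.Perm.mem_alternatingGroup, ← Equiv.Perm.sign_ofSubtype, hσe]
      exact Equiv.Perm.mem_alternatingGroup.mp halt
    rw [← hσe, ← mem_comap]
    rw [← Equiv.Perm.closure_three_cycles_eq_alternating] at hσa
    refine (closure_le _).mpr ?_ hσa
    intro τ hτ
    show Equiv.Perm.ofSubtype τ ∈ fix0
    have ho' : Equiv.Perm.ofSubtype τ o = o := Equiv.Perm.ofSubtype_apply_of_not_mem τ (by simp)
    have ha' : Equiv.Perm.ofSubtype τ ∈ alternatingGroup _ := by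
      rw [Equiv.Perm.mem_alternatingGroup, Equiv.Perm.sign_ofSubtype]
      exact Equiv.Perm.IsThreeCycle.sign hτ
    refine ⟨⟨ho', fun f hf => ⟨?_, ha'⟩⟩, ho', ha'⟩
    have h3 : τ ^ 3 = 1 := by
      rw [← Equiv.Perm.IsThreeCycle.orderOf hτ]; exact pow_orderOf_eq_one τ
    have hf0 : ρ f o = o := by rw [hf, ho']
    have hd := hδZ ⟨f, hf0⟩
    set z := δ ⟨f, hf0⟩ with hz
    have hfu : cv f u = z * u := by rw [hz]; simp only [δ, inv_mul_cancel_right]
    have hfz : cv f z = z := Subtype.ext (by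
      show (f : G) * (z : G) * (f : G)⁻¹ = z
      rw [mem_centralizer_iff.mp hd.2 _ f.2, mul_inv_cancel_right])
    have hcomp : ∀ a b : E, ∀ v, cv (a * b) v = cv a (cv b v) := fun a b v => Subtype.ext (by
      show ((a * b : E) : G) * v * ((a * b : E) : G)⁻¹ = a * (b * v * (b : G)⁻¹) * (a : G)⁻¹
      rw [coe_mul]; group)
    have h3' : cv (f * f * f) u = u := Subtype.ext (by
      show ((f * f * f : E) : G) * u * ((f * f * f : E) : G)⁻¹ = u
      rw [commute_bW u.2 (hQρ _ (by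
        rw [map_mul, map_mul, hf, ← map_mul, ← map_mul, show τ * τ * τ = τ ^ 3 by
          rw [pow_succ, sq], h3, map_one])), mul_inv_cancel_right])
    simp only [hcomp, hfu, map_mul, hfz] at h3'
    have hz3 : z * (z * z) = 1 := by
      have : z * (z * (z * u)) = 1 * u := by rw [one_mul]; exact h3'
      rw [← mul_assoc z z, ← mul_assoc] at this
      exact (mul_assoc z z z).symm.trans (mul_right_cancel this)
    have hzz : z * z = 1 := Subtype.ext (by
      rw [coe_mul, coe_one, ← sq]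
      exact pow_eq_one_of_mem_omega _ z.2)
    rw [hzz, mul_one] at hz3
    rw [hfu, hz3, one_mul]
  -- the orbit
  have htrans : ∀ i, ∃ e : E, ρ e o = i := fun i => by
    by_cases hi : i = o
    · exact ⟨1, by rw [map_one, hi]; rfl⟩
    obtain ⟨k, hk0, hki⟩ : ∃ k : Fin (2 * m + 1), k ≠ o ∧ k ≠ i := by
      by_contra hcon
      push Not at hcon
      have h2 : (Finset.univ : Finset (Fin (2 * m + 1))) ⊆ {o, i} := fun l _ => by
        by_cases hl : l = o
        · simp [hl]
        · simp [hcon l hl]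
      have := (Finset.card_le_card h2).trans Finset.card_le_two
      rw [Finset.card_univ, Fintype.card_fin] at this
      omega
    obtain ⟨e, he⟩ := hr.ge (show Equiv.swap o k * Equiv.swap o i ∈ alternatingGroup _ from by
      rw [Equiv.Perm.mem_alternatingGroup, map_mul, Equiv.Perm.sign_swap hk0.symm,
        Equiv.Perm.sign_swap (Ne.symm hi), ← sq, Int.units_sq])
    exact ⟨e, by rw [he, Equiv.Perm.mul_apply, Equiv.swap_apply_left,
      Equiv.swap_apply_of_ne_of_ne hi hki.symm]⟩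
  choose g hg using htrans
  let x : Fin (2 * m + 1) → bW 2 E := fun i => cv (g i) u
  have hcomp : ∀ a b : E, ∀ v, cv (a * b) v = cv a (cv b v) := fun a b v => Subtype.ext (by
    show ((a * b : E) : G) * v * ((a * b : E) : G)⁻¹ = a * (b * v * (b : G)⁻¹) * (a : G)⁻¹
    rw [coe_mul]; group)
  have hx : ∀ (e : E) (i : Fin (2 * m + 1)), cv e (x i) = x (ρ e i) := fun e i => by
    have h1 := hstab ((g (ρ e i))⁻¹ * (e * g i)) (by
      rw [map_mul, map_mul, map_inv, Equiv.Perm.mul_apply, Equiv.Perm.mul_apply, hg]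
      exact (Equiv.symm_apply_eq _).mpr (hg (ρ e i)).symm)
    have h2 := congrArg (cv (g (ρ e i))) h1
    rw [← hcomp, mul_inv_cancel_left, hcomp] at h2
    exact h2
  have hx2 : ∀ i, x i * x i = 1 := fun i => Subtype.ext (by
    rw [coe_mul, coe_one, ← sq]; exact pow_eq_one_of_mem_omega _ (x i).2)
  have hpw : ∀ (i) (a b : ZMod 2), x i ^ (a + b).val = x i ^ a.val * x i ^ b.val := fun i a b => by
    have key : ∀ a b : ZMod 2, ∃ k : ℕ, a.val + b.val = (a + b).val + 2 * k := by
      intro a b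
      refine ⟨(a.val + b.val) / 2, ?_⟩
      rw [ZMod.val_add]
      omega
    obtain ⟨k, hk⟩ := key a b
    rw [← pow_add, hk, pow_add, pow_mul, sq, hx2, one_pow, mul_one]
  let φ : (Fin (2 * m + 1) → ZMod 2) → bW 2 E := fun v => ∏ i, x i ^ (v i).val
  have hφadd : ∀ v w, φ (v + w) = φ v * φ w := fun v w => by
    simp only [φ, ← Finset.prod_mul_distrib, Pi.add_apply, hpw]
  have hφ0 : φ 0 = 1 := by simp [φ]
  have hψx : ∀ i, Multiplicative.toAdd (ψ (x i)) = 1 + Pi.single i 1 := fun i => by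
    funext j
    rw [show x i = cv (g i) u from rfl, hψ, hu]
    simp only [Pi.add_apply, Pi.one_apply, Pi.single_apply]
    congr 1
    refine if_congr ?_ rfl rfl
    constructor
    · intro h; rw [← hg i, ← h]; exact ((ρ (g i)).apply_symm_apply j).symm
    · intro h; rw [h]; exact (Equiv.symm_apply_eq _).mpr (hg i).symm
  have hsec : ∀ v : Fin (2 * m + 1) → ZMod 2, ∑ i, v i = 0 →
      Multiplicative.toAdd (ψ (φ v)) = v := fun v hv => by
    funext j
    have h : ∀ i : Fin (2 * m + 1), (((v i).val • ((1 : Fin (2 * m + 1) → ZMod 2) + Pi.single i 1)) : Fin (2 * m + 1) → ZMod 2) j =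
        v i + if j = i then v i else 0 := fun i => by
      rw [Pi.smul_apply, Pi.add_apply, Pi.one_apply, Pi.single_apply, nsmul_eq_mul,
        ZMod.natCast_zmod_val, mul_add, mul_one, mul_ite, mul_one, mul_zero]
    simp only [φ, map_prod, map_pow, toAdd_prod, toAdd_pow, hψx, Finset.sum_apply]
    rw [Finset.sum_congr rfl fun i _ => h i, Finset.sum_add_distrib, hv, zero_add, Finset.sum_ite_eq,
      if_pos (Finset.mem_univ j)]
  have hφe : ∀ (e : E) (v : Fin (2 * m + 1) → ZMod 2),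
      cv e (φ v) = φ fun i => v ((ρ e)⁻¹ i) := fun e v => by
    simp only [φ, map_prod, map_pow, hx]
    exact Fintype.prod_equiv (ρ e) _ _ fun i => by simp
  -- the image is all of `M`
  let Im : Subgroup G :=
    { carrier := {y | ∃ v : Fin (2 * m + 1) → ZMod 2, ∑ i, v i = 0 ∧ (φ v : G) = y}
      one_mem' := ⟨0, by simp, by rw [hφ0]; rfl⟩
      mul_mem' := by
        rintro _ _ ⟨v, hv, rfl⟩ ⟨w, hw, rfl⟩
        exact ⟨v + w, by simp [Finset.sum_add_distrib, hv, hw], by rw [hφadd]; rfl⟩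
      inv_mem' := by
        rintro _ ⟨v, hv, rfl⟩
        refine ⟨v, hv, ?_⟩
        have h : φ v * φ v = 1 := by
          rw [← hφadd, show v + v = 0 from funext fun i => CharTwo.add_self_eq_zero (v i), hφ0]
        rw [← coe_inv, ← eq_inv_of_mul_eq_one_left h] }
  have hle : bM 2 E ≤ Im := by
    rw [bM, commutator_le]
    intro w hw e he
    set v := Multiplicative.toAdd (ψ ⟨w, hw⟩) with hv
    have hve : ∑ i, v i = 0 := heven _
    set z : bW 2 E := (φ v)⁻¹ * ⟨w, hw⟩
    have hzZ : (z : G) ∈ bZ 2 E := (hker _).mp (Multiplicative.toAdd.injective (by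
      simp only [z, map_mul, map_inv, toAdd_mul, toAdd_inv, hsec v hve, toAdd_one, ← hv]
      exact neg_add_cancel v))
    refine ⟨v + fun i => v ((ρ ⟨e, he⟩)⁻¹ i), ?_, ?_⟩
    · simp only [Pi.add_apply, Finset.sum_add_distrib, hve, zero_add]
      exact (Fintype.sum_equiv (ρ ⟨e, he⟩)⁻¹ _ _ fun i => rfl).trans hve
    rw [hφadd, ← hφe]
    have hwz : w = (φ v : G) * (z : G) := by simp [z]
    have hze : (z : G) * e = e * (z : G) := (mem_centralizer_iff.mp hzZ.2 e he).symm
    have hinv : φ v = (φ v)⁻¹ := by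
      refine eq_inv_of_mul_eq_one_left ?_
      rw [← hφadd, show v + v = 0 from funext fun i => CharTwo.add_self_eq_zero (v i), hφ0]
    rw [commutatorElement_def, coe_mul]
    conv_rhs => rw [hwz]
    symm
    calc (φ v : G) * (z : G) * e * ((φ v : G) * (z : G))⁻¹ * e⁻¹
        = (φ v : G) * ((z : G) * e) * (z : G)⁻¹ * (φ v : G)⁻¹ * e⁻¹ := by group
      _ = (φ v : G) * (e * ((φ v)⁻¹ : bW 2 E) * e⁻¹) := by rw [hze, coe_inv]; group
      _ = _ := by rw [← hinv]; rfl
  rw [eq_bot_iff]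
  intro y hy
  obtain ⟨v, hv, rfl⟩ := hle hy.1
  have hz : (φ v : G) ∈ bZ 2 E := ⟨(φ v).2, hy.2⟩
  have h0 : v = 0 := by
    rw [← hsec v hv, (hker _).mpr hz]; rfl
  rw [h0, hφ0, Subgroup.mem_bot, coe_one]

/-- A piece of `M` avoiding the centre, invariant under a given `p`-group. -/
theorem exists_piece (hE : IsBlock p E) {P : Subgroup G} (hP : IsPGroup p P)
    (hPE : P ≤ normalizer (E : Set G)) :
    ∃ L : Subgroup G, L ≤ bM p E ∧ L ⊓ centralizer (E : Set G) = ⊥ ∧ P ≤ normalizer (L : Set G) ∧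
      L ≠ ⊥ ∧ Nat.card L ≠ 2 := by
  classical
  suffices h : ∃ L X : Subgroup G, L ≤ bM p E ∧ X ≤ E ∧ X ≤ normalizer (L : Set G) ∧
      L ⊓ centralizer (X : Set G) = ⊥ ∧ P ≤ normalizer (L : Set G) ∧ L ≠ ⊥ by
    obtain ⟨L, X, hL, hX, hXL, hbot, hPL, hne⟩ := h
    refine ⟨L, hL, eq_bot_iff.mpr (le_trans (inf_le_inf_left L (centralizer_le hX)) hbot.le), hPL,
      hne, fun h2 => hne ?_⟩
    have hLX : L ≤ centralizer (X : Set G) := fun l hl => mem_centralizer_iff.mpr fun x hx => by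
      by_cases h1 : l = 1
      · simp [h1]
      have hconj : x * l * x⁻¹ ∈ L := (conj_mem_iff (hXL hx) l).mpr hl
      have hne1 : x * l * x⁻¹ ≠ 1 := fun h => h1 (by simpa using h)
      obtain ⟨a, b, -, huniv⟩ := Nat.card_eq_two_iff.mp h2
      have key : ∀ y z : L, y ≠ 1 → z ≠ 1 → y = z := by
        intro y z hy hz
        have m1 : ∀ w : L, w = a ∨ w = b := fun w => by
          have : w ∈ ({a, b} : Set L) := huniv.ge (Set.mem_univ w)
          simpa using this
        rcases m1 y with rfl | rfl <;> rcases m1 z with rfl | rfl <;>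
          rcases m1 1 with h | h <;> simp_all
      have := key ⟨_, hconj⟩ ⟨l, hl⟩ (by simpa [Subtype.ext_iff] using hne1)
        (by simpa [Subtype.ext_iff] using h1)
      exact mul_inv_eq_iff_eq_mul.mp (congrArg Subtype.val this)
    rw [← hbot, inf_eq_left.mpr hLX]
  obtain ⟨T, hT⟩ := id hE
  rcases hT.2.2.2.2 with ⟨F, i1, i2, n, hc, hiso, hact, -⟩ | ⟨hp, m, ⟨iso⟩, hact, -⟩
  · haveI : CharP F p := charP_of_card_eq_prime_pow hc
    obtain ⟨S⟩ := exists_sec hact
    obtain ⟨L, X, hL, hX, hXL, hbot, hPL, ⟨l, hl, hlv⟩, -⟩ := S.exists_piece hE hiso hP hPE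
    refine ⟨L, X, hL, hX, hXL, hbot, hPL, fun h => hlv ?_⟩
    rw [h, Subgroup.mem_bot] at hl
    rw [hl, S.val_eq_zero (one_mem _)]
    exact one_mem _
  · subst hp
    have hm : 1 ≤ m := by
      by_contra h
      obtain rfl : m = 0 := by omega
      haveI : Subsingleton (Fin (2 * 0 + 1)) := by rw [mul_zero, zero_add]; infer_instance
      exact hE.card_quot_ne_one (by rw [Nat.card_congr iso.toEquiv]; exact Nat.card_unique)
    exact ⟨bM 2 E, E, le_rfl, le_rfl, le_normalizer_bM le_normalizer, bM_inf_of_perm hE hm hact,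
      le_normalizer_bM hPE, fun h => not_bM_le_bZ hE (by rw [h]; exact bot_le)⟩

end Cfsg.Agent.Lib.BTBlock.Subn
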