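import Cfsg.Agent.Lib.BTBlock.Subn.Linear
import Cfsg.Agent.Lib.BTBlock.Subn.Alternating

/-!
# Blocks lie in `E C(E)` for a subnormal block `E`
-/

set_option autoImplicit false

namespace Cfsg.Agent.Lib.BTBlock.Subn

open Subgroup Cfsg Sub Matrix Cfsg.Agent.Lib.SL2
open scoped commutatorElement

universe u

variable {G : Type u} [Group G] [Finite G] {p : ℕ} [Fact p.Prime] {E F : Subgroup G}

theorem sylow_baumann_isPGroup (T : Sylow p G) :
    IsPGroup p (baumannSubgroupOf p (T : Subgroup G)) := T.2.to_le inf_le_left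

/-- A subgroup `[K, B] = K` normalising the block induces inner automorphisms on `M`. -/
theorem le_sup_bC (hG : centralizer (pCore p G : Set G) ≤ pCore p G) {T : Sylow p G}
    (hE : IsBaumannBlock p (T : Subgroup G) E)
    (hK : ⁅F, baumannSubgroupOf p (T : Subgroup G)⁆ = F) (hFN : F ≤ normalizer (E : Set G)) :
    F ≤ E ⊔ bC p E := by
  have hEb : IsBlock p E := ⟨T, hE⟩
  have hBE := BTBlock.baumann_le_normalizer hE
  rcases hE.2.2.2.2 with ⟨K, i1, i2, n, hc, hiso, hact, -⟩ | ⟨hp, m, ⟨iso⟩, hact, -⟩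
  · haveI : CharP K p := charP_of_card_eq_prime_pow hc
    obtain ⟨S⟩ := exists_sec hact
    intro f hf
    obtain ⟨e, he, hef⟩ := S.exists_inner hEb (sylow_baumann_isPGroup T) hBE hFN hK
      (fun b hb => S.baumann_isLin hG hEb hiso hBE hb) f hf
    exact mem_sup_bC_iff.mpr ⟨e, he, (normalizer (E : Set G)).mul_mem (inv_mem (le_normalizer he)) (hFN hf), hef⟩
  · subst hp
    have hm : 1 ≤ m := by
      by_contra h
      obtain rfl : m = 0 := by omega
      haveI : Subsingleton (Fin (2 * 0 + 1)) := by rw [mul_zero, zero_add]; infer_instance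
      exact hEb.card_quot_ne_one (by rw [Nat.card_congr iso.toEquiv]; exact Nat.card_unique)
    exact le_of_commutator_eq hK fun a ha b hb => perm_exists_inner hEb hm hact (hFN ha) (hBE hb)

/-- A `p'`-element trivial on `Q / W` and centralising `M` centralises `Q`. -/
theorem fix_bQ_of_trivOn (hE : IsBlock p E) (hQW : bQ p E ≠ bW p E) {c : G} (hc : c ∈ bC p E)
    (hco : (orderOf c).Coprime p) (hQ : TrivOn (bQ p E) (bW p E) c) :
    ∀ q ∈ bQ p E, c * q * c⁻¹ = q := by
  have hW : TrivOn (bW p E) (bZ p E) c := trivOn_of_centralizes hE hc.1 hc.2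
  have hjW : ∀ w ∈ bW p E, c * w * c⁻¹ = w := fun w hw => by
    have hz := hW w hw
    refine fix_of_step (isPGroup_bQ E) hco (r := c * w * c⁻¹ * w⁻¹) ?_
      (fix_bZ_of_trivOn hE hQW hQ _ hz) (bW_le E hz.1)
    rw [commute_bW hz.1 (bW_le E hw)]
    group
  intro q hq
  have hw := hQ q hq
  refine fix_of_step (isPGroup_bQ E) hco (r := c * q * c⁻¹ * q⁻¹) ?_ (hjW _ hw) (bW_le E hw)
  rw [commute_bW hw hq]
  group

/-- A `p'`-element of `N(E)` trivial on `M` and fixing `Q` centralises `E`. -/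
theorem mem_centralizer_of_fix (hE : IsBlock p E) {c : G} (hc : c ∈ bC p E)
    (hco : (orderOf c).Coprime p) (hfix : ∀ q ∈ bQ p E, c * q * c⁻¹ = q) :
    c ∈ centralizer (E : Set G) := by
  rw [mem_centralizer_iff]
  intro e he
  have hq : ⁅c, e⁆ ∈ bQ p E := (trivOn_props hE hc.1 (trivOn_of_centralizes hE hc.1 hc.2)).2 e he
  set r := e⁻¹ * (c * e * c⁻¹) with hr
  have hrQ : r ∈ bQ p E := by
    have h := (conj_mem_iff (inv_mem (bQ_normal E he)) _).mpr hq
    convert h using 1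
    rw [hr, commutatorElement_def]; group
  have h := fix_of_step (isPGroup_bQ E) hco (x := e) (r := r) (by rw [hr]; group) (hfix r hrQ) hrQ
  calc e * c = c * e * c⁻¹ * c := by rw [h]
    _ = c * e := by group

/-- Splitting off the part of order prime to `p`. -/
theorem exists_factor (hF : closure {g : G | g ∈ F ∧ (orderOf g).Coprime p} = F) {C : Subgroup G}
    (hC : C ≤ normalizer (E : Set G)) (h : F ≤ E ⊔ C)
    (hCc : ∀ c ∈ C, (orderOf c).Coprime p → c ∈ centralizer (E : Set G)) :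
    F ≤ E ⊔ centralizer (E : Set G) ∧
      ∀ f ∈ F, (orderOf f).Coprime p → ∃ e ∈ E, ∃ d ∈ centralizer (E : Set G),
        (orderOf d).Coprime p ∧ f = e * d := by
  have hmain : ∀ f ∈ F, (orderOf f).Coprime p → f ∈ E ⊔ centralizer (E : Set G) := by
    intro f hf hfo
    have hf' : f ∈ ((E ⊔ C : Subgroup G) : Set G) := h hf
    rw [coe_mul_of_right_le_normalizer_left _ _ hC] at hf'
    obtain ⟨e, he, c, hc, rfl⟩ := hf'
    beta_reduce at *
    obtain ⟨k, hk⟩ := exists_coprime_pow p c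
    have hpow : ∀ n : ℕ, ∃ e' ∈ E, (e * c) ^ n = e' * c ^ n := by
      intro n
      induction n with
      | zero => exact ⟨1, one_mem _, by simp⟩
      | succ n ih =>
        obtain ⟨e', he', ih⟩ := ih
        refine ⟨e' * (c ^ n * e * (c ^ n)⁻¹), mul_mem he' ((conj_mem_iff (pow_mem (hC hc) n) e).mpr he), ?_⟩
        rw [pow_succ, ih, pow_succ]
        group
    obtain ⟨e', he', hpk⟩ := hpow (p ^ k)
    have hmem : (e * c) ^ p ^ k ∈ E ⊔ centralizer (E : Set G) :=
      hpk ▸ mul_mem_sup he' (hCc _ (pow_mem hc _) hk)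
    obtain ⟨i, hi⟩ := exists_pow_eq_self_of_coprime (x := e * c) (n := p ^ k)
      (Nat.Coprime.pow_left k hfo.symm)
    exact hi ▸ pow_mem hmem i
  refine ⟨?_, fun f hf hfo => ?_⟩
  · conv_lhs => rw [← hF]
    rw [closure_le]
    exact fun f hf => hmain f hf.1 hf.2
  · have hf' : f ∈ ((E ⊔ centralizer (E : Set G) : Subgroup G) : Set G) := hmain f hf hfo
    rw [coe_mul_of_right_le_normalizer_left _ _ (centralizer_le_normalizer _)] at hf'
    obtain ⟨e, he, d, hd, rfl⟩ := hf'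
    beta_reduce at *
    have hed : Commute e d := mem_centralizer_iff.mp hd e he
    obtain ⟨k, hk⟩ := exists_coprime_pow p d
    obtain ⟨i, hi⟩ := exists_pow_eq_self_of_coprime (x := e * d) (n := p ^ k)
      (Nat.Coprime.pow_left k hfo.symm)
    refine ⟨(e ^ p ^ k) ^ i, pow_mem (pow_mem he _) _, (d ^ p ^ k) ^ i, pow_mem (pow_mem hd _) _,
      hk.coprime_dvd_left (orderOf_pow_dvd i), ?_⟩
    conv_lhs => rw [← hi, hed.mul_pow, ((hed.pow_pow (p ^ k) (p ^ k))).mul_pow]

/-- Every block for `T` in `N(E)` is contained in `E C(E)`. -/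
theorem block_le_sup_centralizer (hG : centralizer (pCore p G : Set G) ≤ pCore p G) {T : Sylow p G}
    (hE : IsBaumannBlock p (T : Subgroup G) E) (hF : IsBaumannBlock p (T : Subgroup G) F)
    (hFN : F ≤ normalizer (E : Set G)) :
    ∀ f ∈ F, (orderOf f).Coprime p → ∃ e ∈ E, ∃ d ∈ centralizer (E : Set G),
      (orderOf d).Coprime p ∧ f = e * d := by
  have hEb : IsBlock p E := ⟨T, hE⟩
  have hFb : IsBlock p F := ⟨T, hF⟩
  have hle := le_sup_bC hG hE hF.2.1 hFN
  set B := baumannSubgroupOf p (T : Subgroup G)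
  have hBE : B ≤ normalizer (E : Set G) := BTBlock.baumann_le_normalizer hE
  by_cases hQW : bQ p E = bW p E
  · refine (exists_factor hFb.eq_closure inf_le_left hle fun c hc hco => ?_).2
    refine mem_centralizer_of_fix hEb hc hco fun q hq => ?_
    have hqM : q ∈ bM p E := by rw [bM_eq_bW hEb hQW, ← hQW]; exact hq
    rw [← mem_centralizer_iff.mp hc.2 q hqM, mul_inv_cancel_right]
  · rcases hE.2.2.2.2 with ⟨K, i1, i2, n, hc, hiso, hact, hex⟩ | ⟨-, m, -, -, h⟩
    swap
    · exact absurd h hQW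
    rcases hex with h | ⟨hp, hact', hder, -, -, -, -⟩
    · exact absurd h hQW
    haveI : CharP K p := charP_of_card_eq_prime_pow hc
    obtain ⟨S⟩ := exists_sec hact
    obtain ⟨S₂⟩ := exists_sec hact'
    have hQ : ⁅bQ p E, bQ p E⁆ ≤ bW p E := hder.le.trans inf_le_left
    set C₁ := bC p E ⊓ trivSub (bQ p E) (bW p E) with hC₁
    refine (exists_factor hFb.eq_closure (inf_le_left.trans inf_le_left) (C := C₁) ?_ fun c hc hco =>
      mem_centralizer_of_fix hEb hc.1 hco (fix_bQ_of_trivOn hEb hQW hc.1 hco hc.2.2)).2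
    refine le_of_commutator_eq hF.2.1 fun a ha b hb => ?_
    obtain ⟨e, he, hg⟩ := mem_sup_bC_iff.mp (hle ha)
    set g := e⁻¹ * a with hgdef
    have hbl := S.baumann_isLin hG hEb hiso hBE hb
    have hb₂ : S₂.IsLin b := by
      obtain ⟨r, hr⟩ := sylow_baumann_isPGroup T ⟨b, hb⟩
      exact S.isLin₂_of_isLin S₂ hEb hp hQ hbl (hbl.unipotent (congrArg Subtype.val hr)).1
    obtain ⟨c, hgc⟩ := S₂.exists_scalar₂ hp hQ hg.1
      (trivOn_props hEb hg.1 (trivOn_of_centralizes hEb hg.1 hg.2)).2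
    have hgn := mem_secNormalizer₂ (p := p) hg.1
    have hgb : g * b * g⁻¹ * b⁻¹ ∈ C₁ := by
      have hC0 : g * b * g⁻¹ * b⁻¹ ∈ bC p E := by
        rw [mul_assoc, mul_assoc, ← mul_assoc b]
        exact mul_mem hg ((conj_mem_iff (le_normalizer_bC (hBE hb)) _).mpr (inv_mem hg))
      refine ⟨hC0, ⟨(mem_secNormalizer₂ hC0.1).1.2, (mem_secNormalizer₂ hC0.1).2⟩, fun x hx => ?_⟩
      have hn := mem_secNormalizer₂ (p := p) hC0.1
      refine (S₂.val_eq_iff ((conj_mem_iff hn.1.2 x).mpr hx) hx).mp ?_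
      rw [← S₂.act_val hn hx, show g * b * g⁻¹ * b⁻¹ = (g * b) * (b * g)⁻¹ by group,
        S₂.act_mul (mul_mem hgn hb₂.1) (inv_mem (mul_mem hb₂.1 hgn))]
      have hsame : ∀ v, S₂.act (g * b) v = S₂.act (b * g) v := fun v => by
        rw [S₂.act_mul hgn hb₂.1, S₂.act_mul hb₂.1 hgn, hgc, hgc, hb₂.2]
      rw [hsame, S₂.act_act_inv (mul_mem hb₂.1 hgn)]
    have heq : ⁅a, b⁆ = e * (g * b * g⁻¹ * b⁻¹) * (b * e⁻¹ * b⁻¹) := by
      rw [show a = e * g by rw [hgdef]; group, commutatorElement_def]; group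
    rw [heq]
    exact mul_mem (mul_mem_sup he hgb) (mem_sup_left ((conj_mem_iff (hBE hb) _).mpr (inv_mem he)))

end Cfsg.Agent.Lib.BTBlock.Subn
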