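import Cfsg.Agent.Lib.BTBlock.Subn.Moved
import Mathlib.FieldTheory.Fixed

/-!
# The Baumann subgroup acts linearly on the natural module of a block
-/

set_option autoImplicit false

namespace Cfsg.Agent.Lib.BTBlock.Subn

open Subgroup Cfsg Sub Matrix Cfsg.Agent.Lib.SL2
open scoped commutatorElement

universe u

theorem card_le_of_ratio {F : Type} [Field F] [Finite F] (F₀ : Subfield F) (W : Set (Fin 2 → F))
    (h : ∀ u ∈ W, ∀ v ∈ W, u ≠ 0 → ∃ c ∈ F₀, v = c • u) : Nat.card W ≤ Nat.card F₀ := by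
  classical
  by_cases h0 : ∀ u ∈ W, u = 0
  · haveI : Subsingleton W := ⟨fun a b => Subtype.ext ((h0 a a.2).trans (h0 b b.2).symm)⟩
    exact (Finite.card_le_one_iff_subsingleton.mpr inferInstance).trans Nat.card_pos
  push Not at h0
  obtain ⟨u, hu, hu0⟩ := h0
  choose c hc hv using fun v : W => h u hu v v.2 hu0
  refine Nat.card_le_card_of_injective (fun v => (⟨c v, hc v⟩ : F₀)) fun v w e => Subtype.ext ?_
  rw [hv v, hv w, show c v = c w from congrArg Subtype.val e]

variable {G : Type u} [Group G] [Finite G] {p : ℕ} [Fact p.Prime] {E : Subgroup G}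
  {F : Type} [Field F] [Fintype F] (S : SL2Sec F E (bW p E) (bZ p E))

theorem mem_secNormalizer {g : G} (hg : g ∈ normalizer (E : Set G)) :
    g ∈ secNormalizer E (bW p E) (bZ p E) :=
  ⟨⟨hg, (le_normalizer_section (p := p) E le_rfl).2.1 hg⟩,
    (le_normalizer_section (p := p) E le_rfl).2.2 hg⟩

theorem SL2Sec.centralizes_of_act_eq (hE : IsBlock p E) {g : G} (hg : g ∈ normalizer (E : Set G))
    (h : ∀ v, S.act g v = v) : g ∈ centralizer (bM p E : Set G) := by
  refine (trivOn_props hE hg fun w hw => ?_).1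
  have hn := mem_secNormalizer (p := p) hg
  refine (S.val_eq_iff ((conj_mem_iff hn.1.2 w).mpr hw) hw).mp ?_
  rw [← S.act_val hn hw, h]

theorem SL2Sec.act_eq_of_centralizes (hE : IsBlock p E) {g : G} (hg : g ∈ normalizer (E : Set G))
    (h : g ∈ centralizer (bM p E : Set G)) (v : Fin 2 → F) : S.act g v = v := by
  obtain ⟨x, hx, rfl⟩ := S.exists_val v
  have hn := mem_secNormalizer (p := p) hg
  rw [S.act_val hn hx, S.val_eq_iff ((conj_mem_iff hn.1.2 x).mpr hx) hx]
  exact trivOn_of_centralizes hE hg h x hx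

/-- Elements of `A ∈ 𝒜(T)` act linearly. -/
theorem SL2Sec.isLin_of_mem_maxIn (hG : centralizer (pCore p G : Set G) ≤ pCore p G)
    (hE : IsBlock p E) [CharP F p] {T : Sylow p G} {A : Subgroup G}
    (hA : A ∈ Thompson.maxIn p (T : Subgroup G)) (hAE : A ≤ normalizer (E : Set G)) {a : G}
    (ha : a ∈ A) : S.IsLin a := by
  classical
  by_contra hnl
  have hAp : IsPGroup p A := Thompson.isPGroup_of_mem_maxIn hA
  have hcomm : ∀ x ∈ A, ∀ y ∈ A, x * y = y * x := fun x hx y hy => ElemAbelian.comm hA.1 hx hy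
  have hN : ∀ x ∈ A, x ∈ secNormalizer E (bW p E) (bZ p E) := fun x hx =>
    mem_secNormalizer (hAE hx)
  have hEZ := le_normalizer_bZ (p := p) E
  choose τ hτ using fun x : A => S.exists_semilinear hEZ (hN x x.2)
  have hact_comm : ∀ x ∈ A, ∀ y ∈ A, ∀ v, S.act x (S.act y v) = S.act y (S.act x v) :=
    fun x hx y hy v => by
      rw [← S.act_mul (hN x hx) (hN y hy), ← S.act_mul (hN y hy) (hN x hx), hcomm x hx y hy]
  have hzero : ∀ x ∈ A, S.act x 0 = 0 := fun x hx => by
    have h := S.act_add (hN x hx) 0 0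
    rw [add_zero] at h
    exact left_eq_add.mp h
  have hne : ∀ x ∈ A, ∀ v, v ≠ 0 → S.act x v ≠ 0 := fun x hx v hv h => hv (by
    rw [← S.act_inv_act (hN x hx) v, h, hzero x⁻¹ (inv_mem hx)])
  set e₀ : Fin 2 → F := ![1, 0]
  have he₀ : e₀ ≠ 0 := fun h => by simpa [e₀] using congrFun h 0
  have huniq : ∀ (x : A) (σ : F ≃+* F), (∀ c, S.act x (c • e₀) = σ c • S.act x e₀) → σ = τ x :=
    fun x σ h => RingEquiv.ext fun c =>
      smul_left_injective F (hne x x.2 e₀ he₀) ((h c).symm.trans (hτ x c e₀))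
  let τh : A →* RingAut F := MonoidHom.mk' τ fun x y => (huniq (x * y) _ fun c => by
    show S.act ((x : G) * y) (c • e₀) = τ x (τ y c) • S.act ((x : G) * y) e₀
    rw [S.act_mul (hN x x.2) (hN y y.2), S.act_mul (hN x x.2) (hN y y.2), hτ, hτ]).symm
  set G₀ := τh.range with hG₀
  haveI : Finite G₀ := Finite.of_surjective τh.rangeRestrict τh.rangeRestrict_surjective
  letI := Fintype.ofFinite G₀
  set F₀ := FixedPoints.subfield G₀ F with hF₀
  have hfin : Module.finrank F₀ F = Fintype.card G₀ := FixedPoints.finrank_eq_card G₀ F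
  have hcard : Nat.card F = Nat.card F₀ ^ Nat.card G₀ := by
    rw [Nat.card_eq_fintype_card (α := G₀), ← hfin]
    exact Module.natCard_eq_pow_finrank
  have hmem : ∀ c : F, (∀ x : A, τ x c = c) → c ∈ F₀ := fun c h m => by
    obtain ⟨x, hx⟩ := m.2
    show (m : RingAut F) c = c
    rw [← hx]; exact h x
  have hd : 2 ≤ Nat.card G₀ := by
    by_contra hlt
    have h1 : Nat.card G₀ = 1 := by have : 0 < Nat.card G₀ := Nat.card_pos; omega
    have hb : G₀ = ⊥ := card_eq_one.mp h1
    refine hnl ⟨hN a ha, fun c v => ?_⟩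
    have : τ ⟨a, ha⟩ = 1 := Subgroup.mem_bot.mp (hb ▸ ⟨⟨a, ha⟩, rfl⟩)
    rw [hτ ⟨a, ha⟩, this]
    rfl
  -- the fixed vectors and the offender inequality
  let Fix : AddSubgroup (Fin 2 → F) :=
    { carrier := {v | ∀ x ∈ A, S.act x v = v}
      zero_mem' := fun x hx => hzero x hx
      add_mem' := fun {v w} hv hw x hx => by rw [S.act_add (hN x hx), hv x hx, hw x hx]
      neg_mem' := fun {v} hv x hx => by
        have h := S.act_add (hN x hx) v (-v)
        rw [add_neg_cancel, hzero x hx, hv x hx] at h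
        exact eq_neg_of_add_eq_zero_right h.symm }
  set D := A ⊓ centralizer (bM p E : Set G) with hD
  have hMU := bM_le_bU hG hE
  have hel : IsElementaryAbelian p (bM p E ⊔ D) := ElemAbelian.sup
    (ElemAbelian.mono isElementary_bU hMU) (ElemAbelian.mono hA.1 inf_le_left)
    (Subgroup.le_centralizer_iff.mp inf_le_right)
  have hmax := hA.2.2 _ hel (sup_le (hMU.trans (bU_le_sylow T)) (inf_le_left.trans hA.2.1))
  choose lift hliftM hliftv using fun v : Fin 2 → F => S.exists_val_bM hE v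
  let φ : ((Fin 2 → F) ⧸ Fix) × D → ↥(bM p E ⊔ D) := fun t =>
    ⟨lift t.1.out * t.2, mul_mem_sup (hliftM _) t.2.2⟩
  have hφ : Function.Injective φ := by
    rintro ⟨q, d⟩ ⟨q', d'⟩ h
    have h' : lift q.out * (d : G) = lift q'.out * d' := congrArg Subtype.val h
    have e : (lift q.out)⁻¹ * lift q'.out = (d : G) * (d' : G)⁻¹ := by
      calc (lift q.out)⁻¹ * lift q'.out = (lift q.out)⁻¹ * (lift q'.out * d') * (d' : G)⁻¹ := by group
        _ = (d : G) * (d' : G)⁻¹ := by rw [← h']; group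
    have hmA : (lift q.out)⁻¹ * lift q'.out ∈ A := e ▸ mul_mem d.2.1 (inv_mem d'.2.1)
    have hW : ∀ v, lift v ∈ bW p E := fun v => bM_le_bW E (hliftM v)
    have hfix : -q.out + q'.out ∈ Fix := fun x hx => by
      have hv : S.val ((lift q.out)⁻¹ * lift q'.out) = -q.out + q'.out := by
        rw [S.val_mul (inv_mem (hW _)) (hW _), S.val_inv (hW _), hliftv, hliftv]
      rw [← hv, S.act_val (hN x hx) (mul_mem (inv_mem (hW _)) (hW _)), hcomm x hx _ hmA,
        mul_inv_cancel_right]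
    obtain rfl : q = q' := by
      rw [← q.out_eq, ← q'.out_eq]
      exact QuotientAddGroup.eq.mpr hfix
    exact Prod.ext rfl (Subtype.ext (mul_left_cancel h'))
  have hoff : Nat.card (Fin 2 → F) * Nat.card D ≤ Nat.card A * Nat.card Fix := by
    have h := (Nat.card_le_card_of_injective φ hφ).trans hmax
    rw [Nat.card_prod] at h
    rw [AddSubgroup.card_eq_card_quotient_mul_card_addSubgroup Fix, mul_right_comm]
    exact Nat.mul_le_mul_right _ h
  -- the linear part
  set A₀ := τh.ker with hA₀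
  have hAcard : Nat.card A = Nat.card G₀ * Nat.card A₀ := by
    rw [← A₀.card_mul_index, hA₀, index_ker, mul_comm]
  have hlin : ∀ h : A, h ∈ A₀ → S.IsLin h := fun h hh => ⟨hN h h.2, fun c v => by
    rw [hτ h, show τ h = 1 from hh]; rfl⟩
  have hkey : Nat.card A₀ * Nat.card Fix ≤ Nat.card F₀ ^ 2 * Nat.card D := by
    by_cases htriv : ∀ h ∈ A₀, ∀ v, S.act (h : A) v = v
    · have h1 : Nat.card A₀ ≤ Nat.card D := by
        refine Nat.card_le_card_of_injective (fun h : A₀ => (⟨((h : A) : G), (h : A).2,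
          S.centralizes_of_act_eq hE (hAE (h : A).2) (htriv h h.2)⟩ : D)) fun x y e => ?_
        exact Subtype.ext (Subtype.ext (congrArg Subtype.val e :))
      have h2 : Nat.card Fix ≤ Nat.card F₀ ^ 2 := by
        by_cases hline : ∀ u ∈ Fix, ∀ v ∈ Fix, u ≠ 0 → ∃ c : F, v = c • u
        · refine (card_le_of_ratio F₀ (Fix : Set (Fin 2 → F)) fun u hu v hv hu0 => ?_).trans
            (Nat.le_self_pow two_ne_zero _)
          obtain ⟨c, rfl⟩ := hline u hu v hv hu0
          refine ⟨c, hmem c fun x => smul_left_injective F hu0 ?_, rfl⟩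
          have h := hv x x.2
          rw [hτ x, hu x x.2] at h
          exact h
        · push Not at hline
          obtain ⟨u, hu, v, hv, hu0, huv⟩ := hline
          have hspan := (line_or_span hu0 v).resolve_left fun ⟨c, hc⟩ => huv c hc
          choose α β hαβ using fun w : Fix => hspan (w : Fin 2 → F)
          have hin : ∀ w : Fix, α w ∈ F₀ ∧ β w ∈ F₀ := fun w => by
            have key : ∀ x : A, τ x (α w) = α w ∧ τ x (β w) = β w := fun x => by
              have h := w.2 x x.2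
              conv_lhs at h => rw [hαβ w, S.act_add (hN x x.2), hτ x, hτ x, hu x x.2, hv x x.2]
              rw [hαβ w] at h
              have h0 : (τ x (α w) - α w) • u + (τ x (β w) - β w) • v = 0 := by
                have e : (τ x (α w) - α w) • u + (τ x (β w) - β w) • v =
                    (τ x (α w) • u + τ x (β w) • v) - (α w • u + β w • v) := by
                  rw [sub_smul, sub_smul]; abel
                rw [e, h, sub_self]
              have hb : τ x (β w) - β w = 0 := by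
                by_contra hb
                refine huv (-(τ x (α w) - α w) / (τ x (β w) - β w)) ?_
                rw [neg_div, neg_smul, div_eq_inv_mul, ← smul_smul, eq_neg_of_add_eq_zero_left h0,
                  smul_neg, neg_neg, smul_smul, inv_mul_cancel₀ hb, one_smul]
              rw [hb, zero_smul, add_zero, smul_eq_zero, or_iff_left hu0] at h0
              exact ⟨sub_eq_zero.mp h0, sub_eq_zero.mp hb⟩
            exact ⟨hmem _ fun x => (key x).1, hmem _ fun x => (key x).2⟩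
          rw [sq, ← Nat.card_prod]
          refine Nat.card_le_card_of_injective (fun w : Fix =>
            ((⟨α w, (hin w).1⟩ : F₀), (⟨β w, (hin w).2⟩ : F₀))) fun w w' e => Subtype.ext ?_
          rw [hαβ w, hαβ w', show α w = α w' from congrArg Subtype.val (congrArg Prod.fst e),
            show β w = β w' from congrArg Subtype.val (congrArg Prod.snd e)]
      calc Nat.card A₀ * Nat.card Fix ≤ Nat.card D * Nat.card F₀ ^ 2 := Nat.mul_le_mul h1 h2
        _ = _ := mul_comm _ _
    · push Not at htriv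
      obtain ⟨g₀, hg₀, w, hgw⟩ := htriv
      have hg₀l := hlin g₀ hg₀
      have hpow : ∀ x : A, ∃ r, (x : G) ^ p ^ r = 1 := fun x =>
        ⟨1, by rw [pow_one]; exact hA.1.2 x x.2⟩
      have hsq : ∀ x : A, x ∈ A₀ → ∀ v, S.act x (S.act x v - v) = S.act x v - v := fun x hx v => by
        obtain ⟨r, hr⟩ := hpow x
        have h := (hlin x hx).unipotent hr
        have h2 := congrArg (fun M : Matrix (Fin 2) (Fin 2) F => M.mulVec v) h.2
        simp only [← Matrix.mulVec_mulVec, Matrix.sub_mulVec, Matrix.one_mulVec,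
          Matrix.zero_mulVec, ← (hlin x hx).act_eq] at h2
        exact sub_eq_zero.mp h2
      set x₀ := S.act (g₀ : G) w - w with hx₀
      have hx0 : x₀ ≠ 0 := sub_ne_zero.mpr hgw
      have hgx : S.act (g₀ : G) x₀ = x₀ := hsq g₀ hg₀ w
      have hfixline : ∀ v, S.act (g₀ : G) v = v → ∃ c : F, v = c • x₀ := by
        intro v hv
        refine (line_or_span hx0 v).resolve_right fun h => hgw ?_
        obtain ⟨α, β, e⟩ := h w
        rw [e, S.act_add (hN _ (g₀ : A).2), hg₀l.2, hg₀l.2, hgx, hv]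
      obtain ⟨v₀, hspan⟩ : ∃ v₀, ∀ v, ∃ α β : F, v = α • x₀ + β • v₀ := by
        refine ⟨w, (line_or_span hx0 w).resolve_left fun ⟨c, hc⟩ => hgw ?_⟩
        rw [hc, hg₀l.2, hgx]
      have hline : ∀ x : A, ∃ c : F, S.act x x₀ = c • x₀ := fun x => hfixline _ (by
        rw [hact_comm _ (g₀ : A).2 x x.2, hgx])
      have hA₀x : ∀ h : A, h ∈ A₀ → S.act h x₀ = x₀ := fun h hh => by
        obtain ⟨μ, hμ⟩ := hline h
        have e := hsq h hh x₀
        rw [hμ, show μ • x₀ - x₀ = (μ - 1) • x₀ by rw [sub_smul, one_smul], (hlin h hh).2, hμ,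
          smul_smul] at e
        have e2 := smul_left_injective F hx0 e
        have : (μ - 1) * (μ - 1) = 0 := by linear_combination e2
        rw [hμ, sub_eq_zero.mp (mul_self_eq_zero.mp this), one_smul]
      have hδ : ∀ h : A, h ∈ A₀ → ∃ c : F, S.act h v₀ - v₀ = c • x₀ := fun h hh => by
        obtain ⟨α, β, e⟩ := hspan (S.act h v₀ - v₀)
        have h1 := hsq h hh v₀
        rw [e, S.act_add (hN h h.2), (hlin h hh).2, (hlin h hh).2, hA₀x h hh, add_right_inj] at h1
        rcases smul_eq_zero.mp (show β • (S.act h v₀ - v₀) = 0 by rw [smul_sub, h1, sub_self]) with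
          hb | hb
        · exact ⟨α, by rw [e, hb, zero_smul, add_zero]⟩
        · exact ⟨0, by rw [hb, zero_smul]⟩
      choose c r hcr using fun x : A => (hspan (S.act x v₀))
      let Sol : Set (Fin 2 → F) := {y | (∃ t : F, y = t • x₀) ∧ ∀ x : A, S.act x y = r x • y}
      have hSol : Nat.card Sol ≤ Nat.card F₀ := card_le_of_ratio F₀ Sol fun u hu v hv hu0 => by
        obtain ⟨t, rfl⟩ := hu.1
        obtain ⟨t', rfl⟩ := hv.1
        have ht : t ≠ 0 := fun h => hu0 (by rw [h, zero_smul])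
        refine ⟨t' / t, hmem _ fun x => ?_, by rw [smul_smul, div_mul_cancel₀ t' ht]⟩
        have h1 := hv.2 x
        rw [show t' • x₀ = (t' / t) • t • x₀ by rw [smul_smul, div_mul_cancel₀ t' ht], hτ x,
          hu.2 x, smul_comm (r x) (t' / t)] at h1
        exact smul_left_injective F (hu.2 x ▸ hne x x.2 _ hu0) h1
      have hmemSol : ∀ h : A, h ∈ A₀ → S.act h v₀ - v₀ ∈ Sol := fun h hh => ⟨hδ h hh, fun x => by
        obtain ⟨t, ht⟩ := hδ h hh
        have e : S.act h v₀ = t • x₀ + v₀ := by rw [← ht]; abel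
        have h1 := hact_comm x x.2 h h.2 v₀
        rw [e, S.act_add (hN x x.2), hcr x, S.act_add (hN h h.2), (hlin h hh).2, (hlin h hh).2,
          hA₀x h hh, e, smul_add, smul_smul] at h1
        rw [ht, smul_smul]
        have h2 : S.act x (t • x₀) + (c x • x₀ + r x • v₀) =
            (r x * t) • x₀ + (c x • x₀ + r x • v₀) := by rw [h1]; abel
        exact add_right_cancel h2⟩
      set DA := D.subgroupOf A with hDA
      let ι : A₀ ⧸ DA.subgroupOf A₀ → Sol := fun q =>
        ⟨S.act ((q.out : A₀) : A) v₀ - v₀, hmemSol _ q.out.2⟩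
      have hι : Function.Injective ι := by
        intro q q' e
        have e' : S.act ((q.out : A₀) : A) v₀ = S.act ((q'.out : A₀) : A) v₀ :=
          sub_left_injective (congrArg Subtype.val e)
        rw [← q.out_eq, ← q'.out_eq]
        refine QuotientGroup.eq.mpr ?_
        set k : A := ((q.out : A₀) : A)⁻¹ * ((q'.out : A₀) : A)
        refine mem_subgroupOf.mpr (mem_subgroupOf.mpr ⟨k.2, ?_⟩)
        refine S.centralizes_of_act_eq hE (hAE k.2) fun v => ?_
        have hk : k ∈ A₀ := mul_mem (inv_mem q.out.2) q'.out.2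
        obtain ⟨α, β, rfl⟩ := hspan v
        have hv₀ : S.act (k : G) v₀ = v₀ := by
          show S.act ((((q.out : A₀) : A) : G)⁻¹ * (((q'.out : A₀) : A) : G)) v₀ = v₀
          rw [S.act_mul (inv_mem (hN _ ((q.out : A₀) : A).2)) (hN _ ((q'.out : A₀) : A).2), ← e',
            S.act_inv_act (hN _ ((q.out : A₀) : A).2)]
        show S.act (k : G) _ = _
        rw [S.act_add (hN _ k.2), (hlin k hk).2, (hlin k hk).2, hA₀x k hk, hv₀]
      have h1 : Nat.card A₀ ≤ Nat.card F₀ * Nat.card D := by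
        rw [card_eq_card_quotient_mul_card_subgroup (DA.subgroupOf A₀)]
        refine Nat.mul_le_mul ((Nat.card_le_card_of_injective ι hι).trans hSol) ?_
        refine Nat.card_le_card_of_injective (fun z : DA.subgroupOf A₀ =>
          (⟨(((z : A₀) : A) : G), mem_subgroupOf.mp (mem_subgroupOf.mp z.2)⟩ : D)) fun z z' e => ?_
        exact Subtype.ext (Subtype.ext (Subtype.ext (congrArg Subtype.val e :)))
      have h2 : Nat.card Fix ≤ Nat.card F₀ := by
        refine card_le_of_ratio F₀ (Fix : Set (Fin 2 → F)) fun u hu v hv hu0 => ?_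
        obtain ⟨t, rfl⟩ := hfixline u (hu _ (g₀ : A).2)
        obtain ⟨t', rfl⟩ := hfixline v (hv _ (g₀ : A).2)
        have ht : t ≠ 0 := fun h => hu0 (by rw [h, zero_smul])
        refine ⟨t' / t, hmem _ fun x => smul_left_injective F hu0 ?_,
          by rw [smul_smul, div_mul_cancel₀ t' ht]⟩
        have h := hv x x.2
        rw [show t' • x₀ = (t' / t) • t • x₀ by rw [smul_smul, div_mul_cancel₀ t' ht], hτ x,
          hu x x.2] at h
        exact h
      calc Nat.card A₀ * Nat.card Fix ≤ Nat.card F₀ * Nat.card D * Nat.card F₀ :=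
            Nat.mul_le_mul h1 h2
        _ = _ := by rw [sq]; ring
  -- the arithmetic
  set q₀ := Nat.card F₀
  set d := Nat.card G₀
  have hq₀ : 2 ≤ q₀ := Finite.one_lt_card
  rw [Nat.card_fun, Nat.card_fin, hcard, hAcard, mul_assoc d] at hoff
  have h1 : (q₀ ^ d) ^ 2 * Nat.card D ≤ d * q₀ ^ 2 * Nat.card D :=
    hoff.trans (by rw [mul_assoc d (q₀ ^ 2)]; exact Nat.mul_le_mul_left _ hkey)
  have h2 := Nat.le_of_mul_le_mul_right h1 Nat.card_pos
  obtain ⟨k, hk⟩ : ∃ k, d = k + 1 := ⟨d - 1, by omega⟩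
  rw [hk, pow_succ q₀ k, mul_pow] at h2
  have h3 := Nat.le_of_mul_le_mul_right h2 (pow_pos (by omega) 2)
  have h4 : (2 ^ k) ^ 2 ≤ (q₀ ^ k) ^ 2 := Nat.pow_le_pow_left (Nat.pow_le_pow_left hq₀ k) 2
  have h5 : k + 1 ≤ 2 ^ k := Nat.lt_two_pow_self
  nlinarith

theorem SL2Sec.thompson_isLin (hG : centralizer (pCore p G : Set G) ≤ pCore p G)
    (hE : IsBlock p E) [CharP F p] {T : Sylow p G}
    (hJE : thompsonSubgroupOf p (T : Subgroup G) ≤ normalizer (E : Set G)) {j : G}
    (hj : j ∈ thompsonSubgroupOf p (T : Subgroup G)) : S.IsLin j := by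
  let LinSub : Subgroup G :=
    { carrier := {g | S.IsLin g}
      one_mem' := S.isLin_one
      mul_mem' := fun ha hb => ha.mul hb
      inv_mem' := fun ha => ha.inv }
  have h : thompsonSubgroupOf p (T : Subgroup G) ≤ LinSub := by
    rw [Thompson.thompsonSubgroupOf_eq_sSup]
    exact sSup_le fun A hA x hx => S.isLin_of_mem_maxIn hG hE hA
      ((Thompson.le_thompsonSubgroupOf hA).trans hJE) hx
  exact h hj

/-- `B(T)` acts linearly. -/
theorem SL2Sec.baumann_isLin (hG : centralizer (pCore p G : Set G) ≤ pCore p G)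
    (hE : IsBlock p E) [CharP F p]
    (hiso : Nonempty (↥E ⧸ pCore p ↥E ≃* ↥(commutator (SLtwo F)))) {T : Sylow p G}
    (hBE : baumannSubgroupOf p (T : Subgroup G) ≤ normalizer (E : Set G)) {b : G}
    (hb : b ∈ baumannSubgroupOf p (T : Subgroup G)) : S.IsLin b := by
  set J := thompsonSubgroupOf p (T : Subgroup G)
  have hJE : J ≤ normalizer (E : Set G) := (thompson_le_baumann _).trans hBE
  obtain ⟨L, X, hLM, hXE, -, hbot, hJL, ⟨l₀, hl₀, hl₀v⟩, hscal⟩ :=
    S.exists_piece hE hiso (T.2.to_le (Thompson.thompsonSubgroupOf_le p _)) hJE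
  have hLne : L ≠ ⊥ := fun h => hl₀v (by
    rw [h, Subgroup.mem_bot] at hl₀
    rw [hl₀, S.val_eq_zero (one_mem _)]
    exact one_mem _)
  obtain ⟨l, hl, hl1, hfix⟩ := exists_fixed_ne_one (T.2.to_le (Thompson.thompsonSubgroupOf_le p _))
    (isPGroup_of_le_bM hLM) hJL hLne
  have hLZ : ∀ z ∈ L, z ∈ bZ p E → z = 1 := fun z hz hzZ =>
    Subgroup.mem_bot.mp (hbot ▸ ⟨hz, centralizer_le hXE hzZ.2⟩)
  have hLW : ∀ z ∈ L, z ∈ bW p E := fun z hz => bM_le_bW E (hLM hz)
  have hlv : S.val l ≠ 0 := fun h => hl1 (hLZ l hl ((S.val_eq_zero (hLW l hl)).mp h))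
  have hbn := mem_secNormalizer (p := p) (hBE hb)
  refine ⟨hbn, ?_⟩
  have hcent : ∀ z ∈ L, (∀ j ∈ J, j * z = z * j) → S.act b (S.val z) = S.val z := by
    intro z hz hzfix
    have hzU := bM_le_bU hG hE (hLM hz)
    have hzc : z ∈ centralizer (J : Set G) := mem_centralizer_iff.mpr hzfix
    have hzJ := Thompson.mem_of_mem_centralizer (bU_le_sylow T hzU) (pow_eq_one_of_mem_omega _ hzU) hzc
    have hzΩ : z ∈ omegaOne p (centerThompsonOf p (T : Subgroup G)) :=
      subset_closure ⟨⟨hzJ, hzc⟩, pow_eq_one_of_mem_omega _ hzU⟩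
    rw [S.act_val hbn (hLW z hz), ← mem_centralizer_iff.mp hb.2 z hzΩ, mul_inv_cancel_right]
  obtain ⟨σ, hσ⟩ := S.exists_semilinear (le_normalizer_bZ E) hbn
  intro c v
  suffices hc : σ c = c by rw [hσ, hc]
  obtain ⟨l', hl', hl'v⟩ := hscal l hl c
  have h1 := hcent l' hl' fun j hj => by
    have hjl := S.thompson_isLin hG hE hJE hj
    have hmem : j * l' * j⁻¹ * l'⁻¹ ∈ L :=
      mul_mem ((conj_mem_iff (hJL hj) l').mpr hl') (inv_mem hl')
    have hval : S.val (j * l' * j⁻¹) = S.val l' := by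
      rw [← S.act_val hjl.1 (hLW l' hl'), hl'v, hjl.2, S.act_val hjl.1 (hLW l hl), hfix j hj,
        mul_inv_cancel_right]
    have h := hLZ _ hmem ((S.val_eq_iff ((conj_mem_iff hjl.1.1.2 l').mpr (hLW l' hl'))
      (hLW l' hl')).mp hval)
    exact mul_inv_eq_iff_eq_mul.mp (mul_inv_eq_one.mp h)
  rw [hl'v, hσ, hcent l hl hfix] at h1
  exact smul_left_injective F hlv h1

/-- A matrix of determinant one. -/
def toSL (M : Matrix (Fin 2) (Fin 2) F) (h : M.det = 1) : SLtwo F := ⟨M, h⟩

theorem le_of_commutator_eq {K B : Subgroup G} (hK : ⁅K, B⁆ = K) {X : Subgroup G}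
    (h : ∀ k ∈ K, ∀ b ∈ B, ⁅k, b⁆ ∈ X) : K ≤ X := by
  rw [← hK, commutator_le]
  exact h

/-- A subgroup `K = [K, B]` induces inner automorphisms on `M`. -/
theorem SL2Sec.exists_inner (hE : IsBlock p E) [CharP F p] {K B : Subgroup G} (hBp : IsPGroup p B)
    (hBN : B ≤ normalizer (E : Set G)) (hKN : K ≤ normalizer (E : Set G))
    (hK : ⁅K, B⁆ = K) (hlin : ∀ b ∈ B, S.IsLin b) :
    ∀ k ∈ K, ∃ e ∈ E, e⁻¹ * k ∈ centralizer (bM p E : Set G) := by
  have hEZ := le_normalizer_bZ (p := p) E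
  let LinSub : Subgroup G :=
    { carrier := {g | S.IsLin g}
      one_mem' := S.isLin_one
      mul_mem' := fun ha hb => ha.mul hb
      inv_mem' := fun ha => ha.inv }
  have hKlin : ∀ k ∈ K, S.IsLin k := fun k hk => le_of_commutator_eq hK (X := LinSub)
    (fun a ha b hb => ((hlin b hb).conj hEZ (mem_secNormalizer (hKN ha))).mul (hlin b hb).inv) hk
  have hdetB : ∀ b ∈ B, (S.mx b).det = 1 := fun b hb => by
    obtain ⟨r, hr⟩ := hBp ⟨b, hb⟩
    exact ((hlin b hb).unipotent (congrArg Subtype.val hr)).1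
  have hdinv : ∀ {g : G}, S.IsLin g → (S.mx g).det * (S.mx g⁻¹).det = 1 := fun {g} hg => by
    rw [← Matrix.det_mul, ← hg.mx_mul hg.inv, mul_inv_cancel, S.mx_one, Matrix.det_one]
  let DetOne : Subgroup G :=
    { carrier := {g | S.IsLin g ∧ (S.mx g).det = 1}
      one_mem' := ⟨S.isLin_one, by rw [S.mx_one, Matrix.det_one]⟩
      mul_mem' := fun ha hb => ⟨ha.1.mul hb.1, by
        rw [ha.1.mx_mul hb.1, Matrix.det_mul, ha.2, hb.2, one_mul]⟩
      inv_mem' := fun {g} ha => ⟨ha.1.inv, by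
        have := hdinv ha.1
        rwa [ha.2, one_mul] at this⟩ }
  have hcl : ∀ {k b : G}, S.IsLin k → S.IsLin b → S.IsLin ⁅k, b⁆ ∧
      S.mx ⁅k, b⁆ = S.mx k * S.mx b * S.mx k⁻¹ * S.mx b⁻¹ := fun {k b} hk hb => by
    rw [commutatorElement_def]
    exact ⟨((hk.mul hb).mul hk.inv).mul hb.inv, by
      rw [((hk.mul hb).mul hk.inv).mx_mul hb.inv, (hk.mul hb).mx_mul hk.inv, hk.mx_mul hb]⟩
  have hKdet : ∀ k ∈ K, S.IsLin k ∧ (S.mx k).det = 1 := fun k hk => le_of_commutator_eq hK
    (X := DetOne) (fun a ha b hb => by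
      obtain ⟨h1, h2⟩ := hcl (hKlin a ha) (hlin b hb)
      refine ⟨h1, ?_⟩
      rw [h2, Matrix.det_mul, Matrix.det_mul, Matrix.det_mul, hdetB b hb, hdetB b⁻¹ (inv_mem hb),
        mul_one, mul_one, hdinv (hKlin a ha)]) hk
  let InR : Subgroup G :=
    { carrier := {g | S.IsLin g ∧ ∃ k ∈ commutator (SLtwo F), S.mx g = (k : Matrix (Fin 2) (Fin 2) F)}
      one_mem' := ⟨S.isLin_one, 1, one_mem _, by rw [S.mx_one, Matrix.SpecialLinearGroup.coe_one]⟩
      mul_mem' := by
        rintro a b ⟨ha, k, hk, e⟩ ⟨hb, k', hk', e'⟩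
        exact ⟨ha.mul hb, k * k', mul_mem hk hk', by
          rw [ha.mx_mul hb, e, e', Matrix.SpecialLinearGroup.coe_mul]⟩
      inv_mem' := by
        rintro a ⟨ha, k, hk, e⟩
        refine ⟨ha.inv, k⁻¹, inv_mem hk, ?_⟩
        have h : S.mx a⁻¹ * S.mx a = 1 := by rw [← ha.inv.mx_mul ha, inv_mul_cancel, S.mx_one]
        have h' : (k : Matrix (Fin 2) (Fin 2) F) * ((k⁻¹ : SLtwo F) : Matrix (Fin 2) (Fin 2) F) = 1 := by
          rw [← Matrix.SpecialLinearGroup.coe_mul, mul_inv_cancel, Matrix.SpecialLinearGroup.coe_one]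
        rw [e] at h
        exact left_inv_eq_right_inv h h' }
  intro k hk
  obtain ⟨-, r, hr, hkr⟩ := le_of_commutator_eq hK (X := InR) (fun a ha b hb => by
    have hka := hKdet a ha
    obtain ⟨h1, h2⟩ := hcl hka.1 (hlin b hb)
    let ka : SLtwo F := toSL (S.mx a) hka.2
    let kb : SLtwo F := toSL (S.mx b) (hdetB b hb)
    refine ⟨h1, ⁅ka, kb⁆, commutator_mem_derived ka kb, ?_⟩
    have hi : ∀ {g : G} (hg : S.IsLin g) (hd : (S.mx g).det = 1),
        S.mx g⁻¹ = (((toSL (S.mx g) hd)⁻¹ : SLtwo F) : Matrix (Fin 2) (Fin 2) F) :=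
      fun {g} hg hd => by
        refine left_inv_eq_right_inv (a := S.mx g) ?_ ?_
        · rw [← hg.inv.mx_mul hg, inv_mul_cancel, S.mx_one]
        · rw [← Matrix.SpecialLinearGroup.coe_one]
          exact congrArg Subtype.val (mul_inv_cancel (toSL (S.mx g) hd))
    rw [h2, hi hka.1 hka.2, hi (hlin b hb) (hdetB b hb), commutatorElement_def]
    simp only [Matrix.SpecialLinearGroup.coe_mul]
    rfl) hk
  obtain ⟨e, he, her⟩ := S.exists_mat hr
  have heN := le_normalizer (H := E) he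
  refine ⟨e, he, S.centralizes_of_act_eq hE (mul_mem (inv_mem heN) (hKN hk)) fun v => ?_⟩
  rw [S.act_mul (inv_mem (mem_secNormalizer heN)) (mem_secNormalizer (hKN hk)), (hKlin k hk).act_eq,
    hkr, ← her, ← S.act_mat hEZ he, S.act_inv_act (mem_secNormalizer heN)]

section Quotient

variable (S₂ : SL2Sec F E (bQ p E) (bW p E))

theorem mem_secNormalizer₂ {g : G} (hg : g ∈ normalizer (E : Set G)) :
    g ∈ secNormalizer E (bQ p E) (bW p E) :=
  ⟨⟨hg, (le_normalizer_section (p := p) E le_rfl).1 hg⟩,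
    (le_normalizer_section (p := p) E le_rfl).2.1 hg⟩

theorem SL2Sec.mat_eq_one₂ (hQ : ⁅bQ p E, bQ p E⁆ ≤ bW p E) {e : G} (he : e ∈ bQ p E) :
    S₂.mat e = 1 := by
  have heE : e ∈ E := Amalgam.pCoreOf_le p E he
  refine Matrix.SpecialLinearGroup.ext _ _ fun i j => ?_
  have h : (S₂.mat e : Matrix (Fin 2) (Fin 2) F).mulVec (Pi.single j 1) = Pi.single j 1 := by
    obtain ⟨x, hx, hv⟩ := S₂.exists_val (Pi.single j 1)
    rw [← hv, ← S₂.val_conj heE hx, S₂.val_eq_iff ((conj_mem_iff (bQ_normal E heE) x).mpr hx) hx]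
    exact hQ (commutator_mem_commutator he hx)
  have h' := congrFun h i
  rw [Matrix.mulVec_single_one] at h'
  simpa [Matrix.one_apply, Pi.single_apply] using h'

/-- An element commuting with `E` modulo `Q` is a scalar on `Q / W`. -/
theorem SL2Sec.exists_scalar₂ [CharP F p] (hp : p = 3) (hQ : ⁅bQ p E, bQ p E⁆ ≤ bW p E) {g : G}
    (hg : g ∈ normalizer (E : Set G)) (hge : ∀ e ∈ E, ⁅g, e⁆ ∈ bQ p E) :
    ∃ c : F, ∀ v, S₂.act g v = c • v := by
  have hEW : E ≤ normalizer (bW p E : Set G) :=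
    (le_normalizer_section (p := p) E (le_normalizer (H := E))).2.1
  have hgn := mem_secNormalizer₂ (p := p) hg
  set T := AddMonoidHom.mk' (S₂.act g) (S₂.act_add hgn)
  have hT : ∀ k ∈ commutator (SLtwo F), ∀ v, T ((k : Matrix (Fin 2) (Fin 2) F).mulVec v) =
      (k : Matrix (Fin 2) (Fin 2) F).mulVec (T v) := fun k hk v => by
    obtain ⟨e, he, rfl⟩ := S₂.exists_mat hk
    show S₂.act g _ = (S₂.mat e : Matrix (Fin 2) (Fin 2) F).mulVec (S₂.act g v)
    rw [S₂.act_conj_mat hEW hgn he, show g * e * g⁻¹ = ⁅g, e⁆ * e by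
      rw [commutatorElement_def]; group, S₂.mat_mul (Amalgam.pCoreOf_le p E (hge e he)) he,
      S₂.mat_eq_one₂ hQ (hge e he), one_mul]
  obtain ⟨n, -, hn⟩ := FiniteField.card F p
  rcases card_prime_or_four_le (F := F) with hq | hq
  · refine exists_scalar_of_three ?_ T hT
    rw [hn] at hq ⊢
    rw [hq.eq_one_of_pow, pow_one, hp]
  · exact exists_scalar_of_four_le hq T hT

/-- Linearity on `Q / W` follows from linearity on `W / Z`. -/
theorem SL2Sec.isLin₂_of_isLin (hE : IsBlock p E) [CharP F p] (hp : p = 3)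
    (hQ : ⁅bQ p E, bQ p E⁆ ≤ bW p E) {b : G} (hb : S.IsLin b) (hdet : (S.mx b).det = 1) :
    S₂.IsLin b := by
  have hbE : b ∈ normalizer (E : Set G) := hb.1.1.1
  have hbn := mem_secNormalizer₂ (p := p) hbE
  rcases card_prime_or_four_le (F := F) with hq | hq
  · refine ⟨hbn, fun c v => ?_⟩
    obtain ⟨k, rfl⟩ := natCast_surjective_of_prime hq c
    rw [Nat.cast_smul_eq_nsmul, Nat.cast_smul_eq_nsmul]
    exact map_nsmul (AddMonoidHom.mk' (S₂.act b) (S₂.act_add hbn)) _ _
  · obtain ⟨e, he, her⟩ :=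
      S.exists_mat ((eq_top_of_four_le hq).ge (mem_top (toSL (S.mx b) hdet)))
    have heN := le_normalizer (H := E) he
    have hgE : e⁻¹ * b ∈ normalizer (E : Set G) := mul_mem (inv_mem heN) hbE
    have hc := S.centralizes_of_act_eq hE hgE fun v => by
      rw [S.act_mul (inv_mem (mem_secNormalizer heN)) hb.1, hb.act_eq,
        show S.mx b = (S.mat e : Matrix (Fin 2) (Fin 2) F) by rw [her]; rfl,
        ← S.act_mat (le_normalizer_bZ E) he, S.act_inv_act (mem_secNormalizer heN)]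
    obtain ⟨c, hc'⟩ := S₂.exists_scalar₂ hp hQ hgE
      (trivOn_props hE hgE (trivOn_of_centralizes hE hgE hc)).2
    have hEW : E ≤ normalizer (bW p E : Set G) :=
      (le_normalizer_section (p := p) E (le_normalizer (H := E))).2.1
    have h : ∀ v, S₂.act b v = (S₂.mat e : Matrix (Fin 2) (Fin 2) F).mulVec (c • v) := fun v => by
      rw [← hc', ← S₂.act_mat hEW he,
        ← S₂.act_mul (mem_secNormalizer₂ heN) (mem_secNormalizer₂ hgE), mul_inv_cancel_left]
    exact ⟨hbn, fun d v => by rw [h, h, smul_comm c d, Matrix.mulVec_smul]⟩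

end Quotient

end Cfsg.Agent.Lib.BTBlock.Subn
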