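import Cfsg.Agent.Lib.PGroup.Thompson
import Mathlib.GroupTheory.Coset.Card

/-!
# Replacement by one element, and norms over cosets
-/

set_option autoImplicit false

namespace Cfsg.Agent.Lib.BTBlock.Subn

open Subgroup Cfsg

universe u

variable {G : Type u} [Group G] [Finite G] {p : ℕ}

/-- The subgroup generated by the commutators of `A` with `w`. -/
def commSpan (A : Subgroup G) (w : G) : Subgroup G :=
  closure {g : G | ∃ x ∈ A, g = x * w * x⁻¹ * w⁻¹}

theorem commSpan_le {A V : Subgroup G} (hinv : ∀ x ∈ A, ∀ v ∈ V, x * v * x⁻¹ ∈ V) {w : G}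
    (hw : w ∈ V) : commSpan A w ≤ V := by
  rw [commSpan, closure_le]
  rintro _ ⟨x, hx, rfl⟩
  exact mul_mem (hinv x hx w hw) (inv_mem hw)

theorem mem_commSpan {A : Subgroup G} {w x : G} (hx : x ∈ A) :
    x * w * x⁻¹ * w⁻¹ ∈ commSpan A w := subset_closure ⟨x, hx, rfl⟩

/-- Thompson replacement for a single element. -/
theorem exists_decomp {P A V : Subgroup G} (hA : A ∈ Thompson.maxIn p P) (hVP : V ≤ P)
    (hV : IsElementaryAbelian p V) (hinv : ∀ x ∈ A, ∀ v ∈ V, x * v * x⁻¹ ∈ V) {w : G} (hw : w ∈ V)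
    (hfix : ∀ c ∈ A ⊓ centralizer (commSpan A w : Set G), c * w = w * c) :
    ∃ m ∈ commSpan A w, ∃ c ∈ A ⊓ centralizer (commSpan A w : Set G), w = m * c := by
  classical
  set X := commSpan A w with hX
  set C := A ⊓ centralizer (X : Set G) with hC
  have hXV : X ≤ V := commSpan_le hinv hw
  have hcX : ∀ c ∈ C, ∀ m ∈ X, m * c = c * m := fun c hc m hm => mem_centralizer_iff.mp hc.2 m hm
  have hel : IsElementaryAbelian p (X ⊔ C) := ElemAbelian.sup (ElemAbelian.mono hV hXV)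
    (ElemAbelian.mono hA.1 inf_le_left)
    fun m hm => mem_centralizer_iff.mpr fun c hc => (hcX c hc m hm).symm
  let f : A → X := fun a => ⟨(a : G) * w * (a : G)⁻¹ * w⁻¹, mem_commSpan a.2⟩
  have hkey : ∀ a b : A, ((f a : G))⁻¹ * (f b : G) ∈ A → ((a⁻¹ * b : A) : G) ∈ C := by
    intro a b hr
    refine ⟨(a⁻¹ * b : A).2, ?_⟩
    show ((a⁻¹ * b : A) : G) ∈ centralizer (X : Set G)
    set g : G := (a : G)⁻¹ * (b : G) with hg
    have hle : X ≤ centralizer ({g} : Set G) := by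
      rw [hX, commSpan, closure_le]
      rintro _ ⟨x, hx, rfl⟩
      show x * w * x⁻¹ * w⁻¹ ∈ centralizer ({g} : Set G)
      rw [mem_centralizer_singleton_iff]
      set α := (a : G) * w * (a : G)⁻¹ with hα
      set β := (b : G) * w * (b : G)⁻¹ with hβ
      have hαV : α ∈ V := hinv a a.2 w hw
      have hβV : β ∈ V := hinv b b.2 w hw
      have cV : ∀ s ∈ V, ∀ t ∈ V, s * t = t * s := fun s hs t ht => ElemAbelian.comm hV hs ht
      have hr' : α⁻¹ * β ∈ A := by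
        have e : ((f a : G))⁻¹ * (f b : G) = α⁻¹ * β := by
          show (α * w⁻¹)⁻¹ * (β * w⁻¹) = α⁻¹ * β
          calc (α * w⁻¹)⁻¹ * (β * w⁻¹) = (w * (α⁻¹ * β)) * w⁻¹ := by group
            _ = α⁻¹ * β := by
              rw [cV w hw _ (mul_mem (inv_mem hαV) hβV), mul_inv_cancel_right]
        rwa [e] at hr
      have hxr : x * (α⁻¹ * β) * x⁻¹ = α⁻¹ * β := by
        rw [ElemAbelian.comm hA.1 hx hr', mul_inv_cancel_right]
      have hxαV := hinv x hx α hαV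
      have hxβV := hinv x hx β hβV
      have h1 : (x * β * x⁻¹) * (x * α * x⁻¹)⁻¹ = β * α⁻¹ := by
        calc (x * β * x⁻¹) * (x * α * x⁻¹)⁻¹
            = (x * α * x⁻¹)⁻¹ * (x * β * x⁻¹) := cV _ hxβV _ (inv_mem hxαV)
          _ = x * (α⁻¹ * β) * x⁻¹ := by group
          _ = α⁻¹ * β := hxr
          _ = β * α⁻¹ := cV _ (inv_mem hαV) _ hβV
      have hcx : ∀ y : A, (y : G) * (x * w * x⁻¹ * w⁻¹) * (y : G)⁻¹ =
          x * ((y : G) * w * (y : G)⁻¹) * x⁻¹ * ((y : G) * w * (y : G)⁻¹)⁻¹ := fun y => by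
        have e : (y : G) * x = x * y := ElemAbelian.comm hA.1 y.2 hx
        calc (y : G) * (x * w * x⁻¹ * w⁻¹) * (y : G)⁻¹
            = ((y : G) * x) * w * ((y : G) * x)⁻¹ * ((y : G) * w * (y : G)⁻¹)⁻¹ := by group
          _ = _ := by rw [e]; group
      have h2 : x * α * x⁻¹ * α⁻¹ = x * β * x⁻¹ * β⁻¹ := by
        calc x * α * x⁻¹ * α⁻¹ = α⁻¹ * (x * α * x⁻¹) := cV _ hxαV _ (inv_mem hαV)
          _ = β⁻¹ * (β * α⁻¹) * (x * α * x⁻¹) := by group
          _ = β⁻¹ * (x * β * x⁻¹) := by rw [← h1]; group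
          _ = x * β * x⁻¹ * β⁻¹ := (cV _ hxβV _ (inv_mem hβV)).symm
      have h3 : (b : G) * (x * w * x⁻¹ * w⁻¹) * (b : G)⁻¹ =
          (a : G) * (x * w * x⁻¹ * w⁻¹) * (a : G)⁻¹ := by rw [hcx b, hcx a]; exact h2.symm
      calc x * w * x⁻¹ * w⁻¹ * g
          = (a : G)⁻¹ * ((a : G) * (x * w * x⁻¹ * w⁻¹) * (a : G)⁻¹) * b := by rw [hg]; group
        _ = (a : G)⁻¹ * ((b : G) * (x * w * x⁻¹ * w⁻¹) * (b : G)⁻¹) * b := by rw [h3]
        _ = g * (x * w * x⁻¹ * w⁻¹) := by rw [hg]; group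
    rw [coe_mul, coe_inv, mem_centralizer_iff]
    intro m hm
    exact mem_centralizer_singleton_iff.mp (hle hm)
  -- the counting
  let CA := C.subgroupOf A
  let AX := A.subgroupOf X
  let φ : (A ⧸ CA) × C → ↥(X ⊔ C) := fun t =>
    ⟨((f t.1.out : X) : G) * t.2, mul_mem_sup (f t.1.out).2 t.2.2⟩
  have hinj : Function.Injective φ := by
    rintro ⟨q, c⟩ ⟨q', c'⟩ h
    have h' : ((f q.out : X) : G) * c = ((f q'.out : X) : G) * c' := congrArg Subtype.val h
    have hA' : ((f q.out : G))⁻¹ * (f q'.out : G) = (c : G) * (c' : G)⁻¹ := by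
      calc ((f q.out : G))⁻¹ * (f q'.out : G)
          = ((f q.out : G))⁻¹ * ((f q'.out : G) * c') * (c' : G)⁻¹ := by group
        _ = (c : G) * (c' : G)⁻¹ := by rw [← h']; group
    have hmem : (q.out⁻¹ * q'.out : A) ∈ CA := mem_subgroupOf.mpr
      (hkey _ _ (hA' ▸ mul_mem c.2.1 (inv_mem c'.2.1)))
    obtain rfl : q = q' := by
      rw [← q.out_eq, ← q'.out_eq]
      exact QuotientGroup.eq.mpr hmem
    exact Prod.ext rfl (Subtype.ext (mul_left_cancel h'))
  have hcard : Nat.card A ≤ Nat.card ↥(X ⊔ C) := by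
    refine le_of_eq_of_le ?_ (Nat.card_le_card_of_injective φ hinj)
    rw [Nat.card_prod, card_eq_card_quotient_mul_card_subgroup CA,
      Nat.card_congr (subgroupOfEquivOfLe (inf_le_left : C ≤ A)).toEquiv]
  have hXCP : X ⊔ C ≤ P := sup_le (hXV.trans hVP) (inf_le_left.trans hA.2.1)
  have hmax : X ⊔ C ∈ Thompson.maxIn p P :=
    ⟨hel, hXCP, fun B hB hBP => (hA.2.2 B hB hBP).trans hcard⟩
  have hwc : ∀ a ∈ X ⊔ C, a * w = w * a := by
    intro a ha
    have : X ⊔ C ≤ centralizer ({w} : Set G) := sup_le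
      (fun m hm => mem_centralizer_singleton_iff.mpr (ElemAbelian.comm hV (hXV hm) hw))
      (fun c hc => mem_centralizer_singleton_iff.mpr (hfix c hc))
    exact mem_centralizer_singleton_iff.mp (this ha)
  have hwX := Thompson.mem_of_pow_eq_one_of_commute hmax (hVP hw) (hV.2 w hw) hwc
  have hn : C ≤ normalizer (X : Set G) := fun c hc => centralizer_le_normalizer _ hc.2
  have hwS : w ∈ ((X ⊔ C : Subgroup G) : Set G) := hwX
  rw [coe_mul_of_right_le_normalizer_left _ _ hn] at hwS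
  obtain ⟨m, hm, c, hc, rfl⟩ := hwS
  exact ⟨m, hm, c, hc, rfl⟩

/-- The norm over the cosets of `P` in `A` of an element of `V` fixed by `P`. -/
theorem exists_norm (V A P : Subgroup G) (hPA : P ≤ A)
    (hV : IsElementaryAbelian p V) (hinv : ∀ x ∈ A, ∀ v ∈ V, x * v * x⁻¹ ∈ V) :
    ∃ N : G → G,
      (∀ x ∈ V, (∀ y ∈ P, y * x = x * y) → N x ∈ V ∧ ∀ a ∈ A, a * N x = N x * a) ∧
      (∀ x ∈ V, ∀ y ∈ V, N (x * y) = N x * N y) ∧
      (∀ x ∈ V, (∀ y ∈ P, y * x = x * y) → (∀ a ∈ A, ∀ b ∈ A, a * b = b * a) →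
        ∀ a ∈ A, N (a * x * a⁻¹) = N x) ∧
      (∀ x ∈ V, (∀ a ∈ A, a * x = x * a) → N x = x ^ (P.relIndex A)) ∧
      (∀ x ∈ V, (∀ y ∈ P, y * x = x * y) → ∀ H : Subgroup G,
        (∀ a ∈ A, a ∉ P → a * x * a⁻¹ ∈ H) → N x * x⁻¹ ∈ H) := by
  classical
  letI : CommGroup V :=
    { (inferInstance : Group V) with
      mul_comm := fun a b => Subtype.ext (ElemAbelian.comm hV a.2 b.2) }
  letI := Fintype.ofFinite (A ⧸ P.subgroupOf A)
  let cv : A → V →* V := fun a =>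
    { toFun := fun v => ⟨(a : G) * v * (a : G)⁻¹, hinv a a.2 v v.2⟩
      map_one' := Subtype.ext (by simp)
      map_mul' := fun v w => Subtype.ext (by simp [mul_assoc]) }
  let Nv : V →* V := ∏ q : A ⧸ P.subgroupOf A, cv q.out
  let N : G → G := fun x => if h : x ∈ V then (Nv ⟨x, h⟩ : G) else 1
  have hN : ∀ {x : G} (h : x ∈ V), N x = (Nv ⟨x, h⟩ : G) := fun h => dif_pos h
  have hterm : ∀ (x : V), (∀ y ∈ P, y * (x : G) = (x : G) * y) → ∀ (a : A) (q : A ⧸ P.subgroupOf A),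
      cv a (cv q.out x) = cv (a • q).out x := by
    intro x hfix a q
    have hq : ((a * q.out : A) : A ⧸ P.subgroupOf A) = a • q := by
      conv_rhs => rw [← q.out_eq]
      rfl
    obtain ⟨h, hh⟩ : ∃ h : P.subgroupOf A, (a • q).out = a * q.out * h := by
      rw [← hq]; exact QuotientGroup.mk_out_eq_mul _ _
    refine Subtype.ext ?_
    have hx : ((h : A) : G) * (x : G) * ((h : A) : G)⁻¹ = x := by
      rw [hfix _ (mem_subgroupOf.mp h.2), mul_inv_cancel_right]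
    show (a : G) * (((q.out : A) : G) * x * ((q.out : A) : G)⁻¹) * (a : G)⁻¹ =
      (((a • q).out : A) : G) * x * (((a • q).out : A) : G)⁻¹
    rw [hh]
    push_cast
    conv_lhs => rw [← hx]
    group
  have happ : ∀ x : V, Nv x = ∏ q : A ⧸ P.subgroupOf A, cv q.out x := fun x =>
    MonoidHom.finsetProd_apply _ _ _
  have hconj : ∀ (x : V), (∀ y ∈ P, y * (x : G) = (x : G) * y) → ∀ a : A, cv a (Nv x) = Nv x := by
    intro x hfix a
    rw [happ, map_prod]
    exact Fintype.prod_equiv (MulAction.toPerm a) _ _ fun q => hterm x hfix a q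
  refine ⟨N, fun x hx hfix => ⟨hN hx ▸ (Nv _).2, fun a ha => ?_⟩, fun x hx y hy => ?_,
    fun x hx hfix hA a ha => ?_, fun x hx hfix => ?_, fun x hx hfix H hH => ?_⟩
  · rw [hN hx]
    have h := congrArg Subtype.val (hconj ⟨x, hx⟩ hfix ⟨a, ha⟩)
    exact mul_inv_eq_iff_eq_mul.mp h
  · rw [hN hx, hN hy, hN (mul_mem hx hy), ← coe_mul, ← map_mul]
    rfl
  · rw [hN hx, hN (hinv a ha x hx)]
    have h := congrArg Subtype.val (hconj ⟨x, hx⟩ hfix ⟨a, ha⟩)
    refine Eq.trans ?_ h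
    have e : Nv ⟨a * x * a⁻¹, hinv a ha x hx⟩ = cv ⟨a, ha⟩ (Nv ⟨x, hx⟩) := by
      rw [happ, happ, map_prod]
      refine Finset.prod_congr rfl fun q _ => Subtype.ext ?_
      have e := hA a ha _ q.out.2
      show ((q.out : A) : G) * (a * x * a⁻¹) * ((q.out : A) : G)⁻¹ =
        a * (((q.out : A) : G) * x * ((q.out : A) : G)⁻¹) * a⁻¹
      calc ((q.out : A) : G) * (a * x * a⁻¹) * ((q.out : A) : G)⁻¹
          = (((q.out : A) : G) * a) * x * (((q.out : A) : G) * a)⁻¹ := by group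
        _ = _ := by rw [← e]; group
    exact congrArg Subtype.val e
  · rw [hN hx]
    have hall : ∀ q : A ⧸ P.subgroupOf A, cv q.out ⟨x, hx⟩ = ⟨x, hx⟩ := fun q => Subtype.ext (by
      show ((q.out : A) : G) * x * ((q.out : A) : G)⁻¹ = x
      rw [hfix _ q.out.2, mul_inv_cancel_right])
    rw [happ, Finset.prod_congr rfl fun q _ => hall q, Finset.prod_const, Finset.card_univ,
      SubgroupClass.coe_pow, ← Nat.card_eq_fintype_card]
    rfl
  · rw [hN hx]
    set q₀ : A ⧸ P.subgroupOf A := ((1 : A) : A ⧸ P.subgroupOf A)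
    have h0 : cv q₀.out ⟨x, hx⟩ = ⟨x, hx⟩ := by
      obtain ⟨h, hh⟩ := QuotientGroup.mk_out_eq_mul (P.subgroupOf A) (1 : A)
      refine Subtype.ext ?_
      show ((q₀.out : A) : G) * x * ((q₀.out : A) : G)⁻¹ = x
      rw [show q₀.out = (1 : A) * h from hh, one_mul, hfix _ (mem_subgroupOf.mp h.2),
        mul_inv_cancel_right]
    have hrest : (∏ q ∈ Finset.univ.erase q₀, cv q.out ⟨x, hx⟩) ∈ H.subgroupOf V := by
      refine prod_mem fun q hq => mem_subgroupOf.mpr (hH _ q.out.2 fun hmem => ?_)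
      refine Finset.ne_of_mem_erase hq ?_
      rw [← q.out_eq]
      exact QuotientGroup.eq.mpr (by
        rw [mul_one, inv_mem_iff]; exact mem_subgroupOf.mpr hmem)
    have e : (Nv ⟨x, hx⟩ : G) * x⁻¹ =
        ((∏ q ∈ Finset.univ.erase q₀, cv q.out ⟨x, hx⟩ : V) : G) := by
      rw [happ, ← Finset.mul_prod_erase _ _ (Finset.mem_univ q₀), h0,
        mul_comm (⟨x, hx⟩ : V), coe_mul, mul_inv_cancel_right]
    rw [e]
    exact mem_subgroupOf.mp hrest

end Cfsg.Agent.Lib.BTBlock.Subn
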