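import Cfsg.Agent.Lib.BTBlock.Subn.Complement
import Cfsg.Agent.Lib.BTBlock.Subn.Replace

/-!
# Thompson and Baumann subgroups fix subnormal blocks
-/

set_option autoImplicit false

namespace Cfsg.Agent.Lib.BTBlock.Subn

open Subgroup Cfsg Sub
open scoped commutatorElement

universe u

variable {G : Type u} [Group G] [Finite G] {p : ℕ} [Fact p.Prime] {E : Subgroup G}

theorem exists_fixed_ne_one {P L : Subgroup G} (hP : IsPGroup p P) (hL : IsPGroup p L)
    (hPL : P ≤ normalizer (L : Set G)) (hne : L ≠ ⊥) :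
    ∃ l ∈ L, l ≠ 1 ∧ ∀ y ∈ P, y * l = l * y := by
  let act : MulAction P L :=
    { smul := fun y l => ⟨(y : G) * l * (y : G)⁻¹, (conj_mem_iff (hPL y.2) _).mpr l.2⟩
      one_smul := fun l => Subtype.ext (by
        show ((1 : P) : G) * l * ((1 : P) : G)⁻¹ = l
        simp)
      mul_smul := fun a b l => Subtype.ext (by
        show ((a * b : P) : G) * l * ((a * b : P) : G)⁻¹ = a * (b * l * (b : G)⁻¹) * (a : G)⁻¹
        rw [coe_mul]; group) }
  obtain ⟨k, hk⟩ := IsPGroup.iff_card.mp hL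
  have hdvd : p ∣ Nat.card L := by
    rw [hk]
    refine dvd_pow_self p fun h0 => hne ?_
    rw [h0, pow_zero] at hk
    exact card_eq_one.mp hk
  obtain ⟨b, hb, hb1⟩ := hP.exists_fixed_point_of_prime_dvd_card_of_fixed_point L hdvd
    (a := (1 : L)) (fun y => Subtype.ext (by
      show (y : G) * ((1 : L) : G) * (y : G)⁻¹ = _
      simp))
  refine ⟨b, b.2, fun h => hb1 (Subtype.ext h.symm), fun y hy => ?_⟩
  exact mul_inv_eq_iff_eq_mul.mp (congrArg Subtype.val (hb ⟨y, hy⟩))

theorem isPGroup_of_le_bM {L : Subgroup G} (h : L ≤ bM p E) : IsPGroup p L :=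
  (isPGroup_bM E).to_le h

/-- `w` is not in the span of its commutators with a `p`-group. -/
theorem eq_one_of_mem_commSpan {V A : Subgroup G} (hV : IsPGroup p V) (hA : IsPGroup p A)
    (hinv : ∀ x ∈ A, ∀ v ∈ V, x * v * x⁻¹ ∈ V) {w : G} (hw : w ∈ V) (h : w ∈ commSpan A w) :
    w = 1 := by
  set Y := closure {g : G | ∃ x ∈ A, g = x * w * x⁻¹} with hY
  have hYV : Y ≤ V := by
    rw [hY, closure_le]
    rintro _ ⟨x, hx, rfl⟩
    exact hinv x hx w hw
  have hwY : w ∈ Y := subset_closure ⟨1, one_mem _, by simp⟩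
  have hAY : A ≤ normalizer (Y : Set G) := by
    refine Coprime.le_normalizer_of_conj_mem fun a ha y hy => ?_
    have hle : Y ≤ Y.comap (MulAut.conj a).toMonoidHom := by
      conv_lhs => rw [hY]
      rw [closure_le]
      rintro _ ⟨x, hx, rfl⟩
      refine subset_closure ⟨a * x, mul_mem ha hx, ?_⟩
      simp [mul_assoc]
    exact hle hy
  by_contra hne
  have hlt := Coprime.commutator_lt_of_isPGroup (hV.to_le hYV) hA hAY
    (fun h0 => hne (Subgroup.mem_bot.mp (h0 ▸ hwY)))
  refine hlt.not_ge ?_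
  have hAD : A ≤ normalizer ((⁅Y, A⁆ : Subgroup G) : Set G) := le_normalizer_commutator_right Y A
  have hwD : w ∈ ⁅Y, A⁆ := by
    have : commSpan A w ≤ ⁅Y, A⁆ := by
      rw [commSpan, closure_le]
      rintro _ ⟨x, hx, rfl⟩
      have h1 := inv_mem (commutator_mem_commutator hwY hx)
      rwa [commutatorElement_inv] at h1
    exact this h
  conv_lhs => rw [hY]
  rw [closure_le]
  rintro _ ⟨x, hx, rfl⟩
  exact (conj_mem_iff (hAD hx) w).mpr hwD

section

variable (hG : centralizer (pCore p G : Set G) ≤ pCore p G) (hE : IsBlock p E)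
  (hEs : E.IsSubnormal)

include hG hE hEs

/-- `J(T)` fixes every subnormal block. -/
theorem thompson_le_normalizer (T : Sylow p G) :
    thompsonSubgroupOf p (T : Subgroup G) ≤ normalizer (E : Set G) := by
  rw [Thompson.thompsonSubgroupOf_eq_sSup]
  refine sSup_le fun A hA => ?_
  by_contra hcon
  obtain ⟨a₀, ha₀A, ha₀N⟩ := SetLike.not_le_iff_exists.mp hcon
  set A₀ := A ⊓ normalizer (E : Set G) with hA₀
  have hAp : IsPGroup p A := Thompson.isPGroup_of_mem_maxIn hA
  have hcomm : ∀ a ∈ A, ∀ b ∈ A, a * b = b * a := fun a ha b hb => ElemAbelian.comm hA.1 ha hb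
  obtain ⟨L, hLM, hLC, hA₀L, hLne, hL2⟩ :=
    exists_piece hE (hAp.to_le (inf_le_left : A₀ ≤ A)) inf_le_right
  have hLU : L ≤ bU p G := hLM.trans (bM_le_bU hG hE)
  have hUinv : ∀ x ∈ A, ∀ v ∈ bU p G, x * v * x⁻¹ ∈ bU p G := fun x _ v hv => conj_mem_bU x hv
  have hkey : ∀ {t l : G}, t ∉ normalizer (E : Set G) → l ∈ L → t * l = l * t → l = 1 :=
    fun ht hl hfix => Subgroup.mem_bot.mp (hLC ▸ ⟨hl,
      centralizes_of_fixed_moved hG hE hEs ht (bM_le_self E (hLM hl)) hfix⟩)
  by_cases hbig : ∃ a ∈ A, a ∉ A₀ ∧ ∃ b ∈ A, b ∉ A₀ ∧ a * b ∉ A₀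
  · obtain ⟨a, haA, haA₀, b, hbA, hbA₀, habA₀⟩ := hbig
    obtain ⟨w, hwL, hw1, hwfix⟩ := exists_fixed_ne_one (hAp.to_le (inf_le_left : A₀ ≤ A))
      (isPGroup_of_le_bM hLM) hA₀L hLne
    have hwU := hLU hwL
    have hwC : w ∉ centralizer (E : Set G) := fun h => hw1 (Subgroup.mem_bot.mp (hLC ▸ ⟨hwL, h⟩))
    have hfix : ∀ c ∈ A ⊓ centralizer (commSpan A w : Set G), c * w = w * c := by
      intro c hc
      by_cases hcA₀ : c ∈ A₀
      · exact hwfix c hcA₀
      exfalso
      obtain ⟨t, htA, htA₀, htc⟩ : ∃ t ∈ A, t ∉ A₀ ∧ t * c ∉ A₀ := by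
        by_contra hno
        push Not at hno
        refine habA₀ ?_
        have h1 := hno a haA haA₀
        have h2 := hno b hbA hbA₀
        have h3 := hno c hc.1 hcA₀
        rw [show a * b = (a * c) * (b * c) * (c * c)⁻¹ by
          have e : b * c = c * b := hcomm b hbA c hc.1
          have e2 : c⁻¹ * b = b * c⁻¹ := hcomm _ (inv_mem hc.1) b hbA
          calc a * b = a * c * (c⁻¹ * b) := by group
            _ = a * c * (b * c⁻¹) := by rw [e2]
            _ = a * c * (b * c) * (c * c)⁻¹ := by group]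
        exact mul_mem (mul_mem h1 h2) (inv_mem h3)
      have htN : t ∉ normalizer (E : Set G) := fun h => htA₀ ⟨htA, h⟩
      have htcN : t * c ∉ normalizer (E : Set G) := fun h => htc ⟨mul_mem htA hc.1, h⟩
      have hcN : c ∉ normalizer (E : Set G) := fun h => hcA₀ ⟨hc.1, h⟩
      have hv := mem_centralizer_iff.mp hc.2 _ (mem_commSpan (w := w) htA)
      have hwE := bM_le_self E (hLM hwL)
      have h1 : t * w * t⁻¹ * w⁻¹ = (t * c) * w * (t * c)⁻¹ * (c * w * c⁻¹)⁻¹ := by
        calc t * w * t⁻¹ * w⁻¹ = (t * w * t⁻¹ * w⁻¹) * c * c⁻¹ := by group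
          _ = c * (t * w * t⁻¹ * w⁻¹) * c⁻¹ := by rw [hv]
          _ = (c * t) * w * (c * t)⁻¹ * (c * w * c⁻¹)⁻¹ := by group
          _ = _ := by rw [hcomm c hc.1 t htA]
      have h2 : w⁻¹ ∈ centralizer (E : Set G) := by
        rw [show w⁻¹ = (t * w * t⁻¹)⁻¹ * (t * w * t⁻¹ * w⁻¹) by group, h1]
        exact mul_mem (inv_mem (moved_centralizes hG hE hEs htN hwE))
          (mul_mem (moved_centralizes hG hE hEs htcN hwE)
            (inv_mem (moved_centralizes hG hE hEs hcN hwE)))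
      exact hwC (inv_mem_iff.mp h2)
    obtain ⟨m, hm, c, hc, hmc⟩ := exists_decomp hA (bU_le_sylow T) isElementary_bU hUinv hwU hfix
    obtain ⟨N, hN1, hNmul, hNconj, hNfix, hNH⟩ :=
      exists_norm (bU p G) A A₀ inf_le_left isElementary_bU hUinv
    have hN0 : N 1 = 1 := by
      have h := hNmul 1 (one_mem _) 1 (one_mem _)
      rw [one_mul] at h
      exact left_eq_mul.mp h
    let K : Subgroup G :=
      { carrier := {v | v ∈ bU p G ∧ (∀ y ∈ A₀, y * v = v * y) ∧ N v = 1}
        one_mem' := ⟨one_mem _, fun y _ => by simp, hN0⟩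
        mul_mem' := fun {u v} hu hv => ⟨mul_mem hu.1 hv.1, fun y hy => by
          rw [← mul_assoc, hu.2.1 y hy, mul_assoc, hv.2.1 y hy, mul_assoc],
          by rw [hNmul u hu.1 v hv.1, hu.2.2, hv.2.2, one_mul]⟩
        inv_mem' := fun {u} hu => ⟨inv_mem hu.1, fun y hy => (Commute.inv_right (hu.2.1 y hy)).eq, by
          have h := hNmul u hu.1 u⁻¹ (inv_mem hu.1)
          rw [mul_inv_cancel, hN0, hu.2.2, one_mul] at h
          exact h.symm⟩ }
    have hXK : commSpan A w ≤ K := by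
      rw [commSpan, closure_le]
      rintro _ ⟨x, hx, rfl⟩
      have hxw : ∀ y ∈ A₀, y * (x * w * x⁻¹) = x * w * x⁻¹ * y := fun y hy => by
        have e1 := hcomm y hy.1 x hx
        calc y * (x * w * x⁻¹) = (y * x) * w * x⁻¹ := by group
          _ = x * (y * w) * x⁻¹ := by rw [e1]; group
          _ = x * w * (y * x⁻¹) := by rw [hwfix y hy]; group
          _ = x * w * x⁻¹ * y := by rw [hcomm y hy.1 x⁻¹ (inv_mem hx)]; group
      have hxwU := hUinv x hx w hwU
      refine ⟨mul_mem hxwU (inv_mem hwU), fun y hy => ?_, ?_⟩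
      · exact ((show Commute y (x * w * x⁻¹) from hxw y hy).mul_right
          (Commute.inv_right (show Commute y w from hwfix y hy))).eq
      · have h := hNmul (x * w * x⁻¹ * w⁻¹) (mul_mem hxwU (inv_mem hwU)) w hwU
        rw [inv_mul_cancel_right, hNconj w hwU hwfix hcomm x hx] at h
        exact right_eq_mul.mp h
    have hcU : c ∈ bU p G := by
      rw [show c = m⁻¹ * w by rw [hmc]; group]
      exact mul_mem (inv_mem (hXK hm).1) hwU
    have hk : p ∣ A₀.relIndex A := by
      obtain ⟨k, hk⟩ := hAp.index (A₀.subgroupOf A)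
      rw [relIndex, hk]
      refine dvd_pow_self p fun h0 => ?_
      rw [h0, pow_zero, index_eq_one, subgroupOf_eq_top] at hk
      exact ha₀N (hk ha₀A).2
    have hNc : N c = 1 := by
      rw [hNfix c hcU fun x hx => hcomm x hx c hc.1]
      obtain ⟨d, hd⟩ := hk
      rw [hd, pow_mul, pow_eq_one_of_mem_omega _ hcU, one_pow]
    have hNw : N w = 1 := by
      conv_lhs => rw [hmc]
      rw [hNmul m (hXK hm).1 c hcU, (hXK hm).2.2, hNc, one_mul]
    have := hNH w hwU hwfix (centralizer (E : Set G)) fun x hx hxA₀ =>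
      moved_centralizes hG hE hEs (fun h => hxA₀ ⟨hx, h⟩) (bM_le_self E (hLM hwL))
    rw [hNw, one_mul, inv_mem_iff] at this
    exact hwC this
  · push Not at hbig
    have ha₀ : a₀ ∉ A₀ := fun h => ha₀N h.2
    have hsq : a₀ * a₀ ∈ A₀ := hbig a₀ ha₀A ha₀ a₀ ha₀A ha₀
    have hrep : ∀ x ∈ A, x ∉ A₀ → a₀⁻¹ * x ∈ A₀ := fun x hx hxA₀ =>
      hbig a₀⁻¹ (inv_mem ha₀A) (fun h => ha₀ (inv_mem_iff.mp h)) x hx hxA₀
    have hp : p = 2 := by
      refine ((Fact.out : p.Prime).eq_two_or_odd').resolve_right fun ⟨r, hr⟩ => ha₀ ?_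
      have h1 : (a₀ * a₀) ^ (r + 1) = a₀ := by
        rw [← sq, ← pow_mul, show 2 * (r + 1) = p + 1 by omega, pow_succ, hA.1.2 a₀ ha₀A, one_mul]
      exact h1 ▸ pow_mem hsq _
    have ha2 : a₀ * a₀ = 1 := by rw [← sq, ← hp]; exact hA.1.2 a₀ ha₀A
    by_cases hall : ∀ w ∈ L, ∀ y ∈ A₀, y * w = w * y
    · classical
      have hel : IsElementaryAbelian p (A₀ ⊔ L) := ElemAbelian.sup (ElemAbelian.mono hA.1 inf_le_left)
        (ElemAbelian.mono isElementary_bU hLU)
        fun y hy => mem_centralizer_iff.mpr fun l hl => (hall l hl y hy).symm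
      have hmax := hA.2.2 _ hel (sup_le (inf_le_left.trans hA.2.1) (hLU.trans (bU_le_sylow T)))
      let φ : A₀ × L → ↥(A₀ ⊔ L) := fun t => ⟨(t.1 : G) * t.2, mul_mem_sup t.1.2 t.2.2⟩
      have hφ : Function.Injective φ := by
        rintro ⟨x, l⟩ ⟨x', l'⟩ h
        have h' : (x : G) * l = (x' : G) * l' := congrArg Subtype.val h
        have e : (x' : G)⁻¹ * x = (l' : G) * (l : G)⁻¹ := by
          calc (x' : G)⁻¹ * x = (x' : G)⁻¹ * ((x : G) * l) * (l : G)⁻¹ := by group
            _ = (l' : G) * (l : G)⁻¹ := by rw [h']; group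
        have hmem : (l' : G) * (l : G)⁻¹ ∈ A := e ▸ mul_mem (inv_mem x'.2.1) x.2.1
        have h1 := hkey ha₀N (mul_mem l'.2 (inv_mem l.2)) (hcomm _ ha₀A _ hmem)
        obtain rfl : l = l' := Subtype.ext (mul_inv_eq_one.mp h1).symm
        exact Prod.ext (Subtype.ext (mul_right_cancel h')) rfl
      let ψ : A → A₀ × Bool := fun x =>
        if h : (x : G) ∈ A₀ then (⟨x, h⟩, false) else (⟨a₀⁻¹ * x, hrep x x.2 h⟩, true)
      have hψ : Function.Injective ψ := by
        intro x y h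
        simp only [ψ] at h
        refine Subtype.ext ?_
        by_cases hx : (x : G) ∈ A₀ <;> by_cases hy : (y : G) ∈ A₀
        · rw [dif_pos hx, dif_pos hy, Prod.mk.injEq, Subtype.mk.injEq] at h
          exact h.1
        · rw [dif_pos hx, dif_neg hy, Prod.mk.injEq] at h
          exact absurd h.2 Bool.false_ne_true
        · rw [dif_neg hx, dif_pos hy, Prod.mk.injEq] at h
          exact absurd h.2.symm Bool.false_ne_true
        · rw [dif_neg hx, dif_neg hy, Prod.mk.injEq, Subtype.mk.injEq] at h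
          exact mul_left_cancel h.1
      have h1 := (Nat.card_le_card_of_injective φ hφ).trans
        (hmax.trans (Nat.card_le_card_of_injective ψ hψ))
      rw [Nat.card_prod, Nat.card_prod, Nat.card_eq_fintype_card (α := Bool), Fintype.card_bool] at h1
      have hL3 : 3 ≤ Nat.card L := by
        have h0 : 0 < Nat.card L := Nat.card_pos
        have : Nat.card L ≠ 1 := fun h => hLne (card_eq_one.mp h)
        omega
      have h0 : 0 < Nat.card A₀ := Nat.card_pos
      have := Nat.le_of_mul_le_mul_left h1 h0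
      omega
    · push Not at hall
      obtain ⟨w, hwL, y₀, hy₀, hy₀w⟩ := hall
      have hwU := hLU hwL
      have hstep : ∀ y ∈ A₀, y * w * y⁻¹ * w⁻¹ ∈ L := fun y hy =>
        mul_mem ((conj_mem_iff (hA₀L hy) w).mpr hwL) (inv_mem hwL)
      have hfix : ∀ c ∈ A ⊓ centralizer (commSpan A w : Set G), c * w = w * c := by
        intro c hc
        by_cases hcA₀ : c ∈ A₀
        · have hv := mem_centralizer_iff.mp hc.2 _ (mem_commSpan (w := w) ha₀A)
          have h1 : c * w * c⁻¹ * w⁻¹ = 1 := by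
            refine hkey ha₀N (hstep c hcA₀) ?_
            set v := c * w * c⁻¹ * w⁻¹ with hvdef
            set α := a₀ * w * a₀⁻¹ with hα
            have e : c * α * c⁻¹ * (c * w * c⁻¹)⁻¹ = α * w⁻¹ := by
              calc c * α * c⁻¹ * (c * w * c⁻¹)⁻¹ = c * (α * w⁻¹) * c⁻¹ := by group
                _ = α * w⁻¹ := by rw [← hv, mul_inv_cancel_right]
            have e1 : a₀ * (c * w * c⁻¹) * a₀⁻¹ = c * α * c⁻¹ := by
              calc a₀ * (c * w * c⁻¹) * a₀⁻¹ = (a₀ * c) * w * (a₀ * c)⁻¹ := by group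
                _ = _ := by rw [← hcomm c hc.1 a₀ ha₀A, hα]; group
            have hwU' : ∀ {s t : G}, s ∈ bU p G → t ∈ bU p G → s * t = t * s :=
              fun hs ht => comm_omega _ hs ht
            have hcw := hUinv c hc.1 w hwU
            have hαU : α ∈ bU p G := hUinv a₀ ha₀A w hwU
            have hcα : c * α * c⁻¹ ∈ bU p G := hUinv c hc.1 α hαU
            have e2 : c * α * c⁻¹ * α⁻¹ = v := by
              calc c * α * c⁻¹ * α⁻¹ = (c * α * c⁻¹ * (c * w * c⁻¹)⁻¹) * (c * w * c⁻¹) * α⁻¹ := by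
                    group
                _ = α * (w⁻¹ * (c * w * c⁻¹)) * α⁻¹ := by rw [e]; group
                _ = (w⁻¹ * (c * w * c⁻¹)) * α * α⁻¹ := by
                    rw [hwU' hαU (mul_mem (inv_mem hwU) hcw)]
                _ = v := by rw [mul_inv_cancel_right, hwU' (inv_mem hwU) hcw]
            calc a₀ * v = a₀ * v * a₀⁻¹ * a₀ := by group
              _ = (a₀ * (c * w * c⁻¹) * a₀⁻¹) * α⁻¹ * a₀ := by rw [hvdef, hα]; group
              _ = v * a₀ := by rw [e1, e2]
          exact mul_inv_eq_iff_eq_mul.mp (mul_inv_eq_one.mp h1)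
        · exfalso
          have hcN : c ∉ normalizer (E : Set G) := fun h => hcA₀ ⟨hc.1, h⟩
          have h1 := hkey hcN (hstep y₀ hy₀)
            (mem_centralizer_iff.mp hc.2 _ (mem_commSpan hy₀.1)).symm
          exact hy₀w (mul_inv_eq_iff_eq_mul.mp (mul_inv_eq_one.mp h1))
      obtain ⟨m, hm, c, hc, hmc⟩ := exists_decomp hA (bU_le_sylow T) isElementary_bU hUinv hwU hfix
      let Φ : G → G := fun v => v * (a₀ * v * a₀⁻¹)
      have hcm : ∀ {s t : G}, s ∈ bU p G → t ∈ bU p G → Commute s t :=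
        fun hs ht => comm_omega _ hs ht
      have hΦmul : ∀ u ∈ bU p G, ∀ v ∈ bU p G, Φ (u * v) = Φ u * Φ v := fun u hu v hv => by
        simp only [Φ]
        calc u * v * (a₀ * (u * v) * a₀⁻¹) = u * (v * (a₀ * u * a₀⁻¹)) * (a₀ * v * a₀⁻¹) := by group
          _ = _ := by rw [(hcm hv (hUinv a₀ ha₀A u hu)).eq]; group
      have hai : a₀⁻¹ = a₀ := inv_eq_of_mul_eq_one_right ha2
      have hΦconj : ∀ v ∈ bU p G, Φ (a₀ * v * a₀⁻¹) = Φ v := fun v hv => by
        simp only [Φ]
        have e : a₀ * (a₀ * v * a₀⁻¹) * a₀⁻¹ = v := by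
          rw [show a₀ * (a₀ * v * a₀⁻¹) * a₀⁻¹ = (a₀ * a₀) * v * (a₀ * a₀)⁻¹ by group, ha2]; group
        rw [e, (hcm hv (hUinv a₀ ha₀A v hv)).eq]
      have hΦ1 : Φ 1 = 1 := by simp [Φ]
      have hX₀L : commSpan A₀ w ≤ L := commSpan_le (fun x hx v hv => (conj_mem_iff (hA₀L hx) v).mpr hv) hwL
      let S : Subgroup G :=
        { carrier := {v | v ∈ bU p G ∧ ∃ u ∈ commSpan A₀ w, Φ v = Φ u}
          one_mem' := ⟨one_mem _, 1, one_mem _, rfl⟩
          mul_mem' := by
            rintro v v' ⟨hv, u, hu, e⟩ ⟨hv', u', hu', e'⟩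
            exact ⟨mul_mem hv hv', u * u', mul_mem hu hu', by
              rw [hΦmul v hv v' hv', hΦmul u (hLU (hX₀L hu)) u' (hLU (hX₀L hu')), e, e']⟩
          inv_mem' := by
            rintro v ⟨hv, u, hu, e⟩
            refine ⟨inv_mem hv, u⁻¹, inv_mem hu, ?_⟩
            have key : ∀ {t : G}, t ∈ bU p G → Φ t⁻¹ = (Φ t)⁻¹ := fun {t} ht =>
              eq_inv_of_mul_eq_one_left (by
                rw [← hΦmul t⁻¹ (inv_mem ht) t ht, inv_mul_cancel, hΦ1])
            rw [key hv, key (hLU (hX₀L hu)), e] }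
      have hawU := hUinv a₀ ha₀A w hwU
      have haw : Φ (a₀ * w * a₀⁻¹ * w⁻¹) = 1 := by
        have h := hΦmul (a₀ * w * a₀⁻¹ * w⁻¹) (mul_mem hawU (inv_mem hwU)) w hwU
        rw [inv_mul_cancel_right, hΦconj w hwU] at h
        exact right_eq_mul.mp h
      have hXS : commSpan A w ≤ S := by
        rw [commSpan, closure_le]
        rintro _ ⟨x, hx, rfl⟩
        refine ⟨mul_mem (hUinv x hx w hwU) (inv_mem hwU), ?_⟩
        by_cases hxA₀ : x ∈ A₀
        · exact ⟨_, mem_commSpan hxA₀, rfl⟩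
        set y := a₀⁻¹ * x with hy
        have hyA₀ : y ∈ A₀ := hrep x hx hxA₀
        refine ⟨_, mem_commSpan hyA₀, ?_⟩
        have hsU : y * w * y⁻¹ * w⁻¹ ∈ bU p G := hLU (hX₀L (mem_commSpan hyA₀))
        rw [show x * w * x⁻¹ * w⁻¹ =
            (a₀ * (y * w * y⁻¹ * w⁻¹) * a₀⁻¹) * (a₀ * w * a₀⁻¹ * w⁻¹) by rw [hy]; group,
          hΦmul _ (hUinv a₀ ha₀A _ hsU) _ (mul_mem hawU (inv_mem hwU)), hΦconj _ hsU, haw, mul_one]
      obtain ⟨hmU, u, hu, hmu⟩ := hXS hm
      have hcU : c ∈ bU p G := by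
        rw [show c = m⁻¹ * w by rw [hmc]; group]
        exact mul_mem (inv_mem hmU) hwU
      have hΦc : Φ c = 1 := by
        simp only [Φ]
        rw [hcomm a₀ ha₀A c hc.1, mul_inv_cancel_right, ← sq, ← hp]
        exact pow_eq_one_of_mem_omega _ hcU
      have hwu : Φ w = Φ u := by rw [hmc, hΦmul m hmU c hcU, hΦc, mul_one, hmu]
      set l := w * u⁻¹ with hl
      have hlL : l ∈ L := mul_mem hwL (inv_mem (hX₀L hu))
      have hΦl : Φ l = 1 := by
        have h := hΦmul l (hLU hlL) u (hLU (hX₀L hu))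
        rw [hl, inv_mul_cancel_right, hwu, ← hl] at h
        exact right_eq_mul.mp h
      have hl1 : l = 1 := by
        have h1 := moved_centralizes hG hE hEs ha₀N (bM_le_self E (hLM hlL))
        rw [show a₀ * l * a₀⁻¹ = l⁻¹ from eq_inv_of_mul_eq_one_right hΦl, inv_mem_iff] at h1
        exact Subgroup.mem_bot.mp (hLC ▸ ⟨hlL, h1⟩)
      have hwX : w ∈ commSpan A₀ w := by
        have e : w = u := mul_inv_eq_one.mp hl1
        exact (congrArg (· ∈ commSpan A₀ w) e).mpr hu
      have hw1 : w = 1 := eq_one_of_mem_commSpan (isPGroup_of_le_bM hLM) (hAp.to_le inf_le_left)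
        (fun x hx v hv => (conj_mem_iff (hA₀L hx) v).mpr hv) hwL hwX
      exact hy₀w (by rw [hw1, one_mul, mul_one])

/-- `B(T)` fixes every subnormal block. -/
theorem baumann_le_normalizer_all (T : Sylow p G) :
    baumannSubgroupOf p (T : Subgroup G) ≤ normalizer (E : Set G) := by
  intro b hb
  by_contra hbN
  set J := thompsonSubgroupOf p (T : Subgroup G) with hJ
  obtain ⟨L, hLM, hLC, hJL, hLne, -⟩ := exists_piece hE
    (T.2.to_le (Thompson.thompsonSubgroupOf_le p _)) (thompson_le_normalizer hG hE hEs T)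
  obtain ⟨l, hl, hl1, hfix⟩ := exists_fixed_ne_one (T.2.to_le (Thompson.thompsonSubgroupOf_le p _))
    (isPGroup_of_le_bM hLM) hJL hLne
  have hlU := bM_le_bU hG hE (hLM hl)
  have hlp := pow_eq_one_of_mem_omega _ hlU
  have hlc : l ∈ centralizer (J : Set G) := mem_centralizer_iff.mpr hfix
  have hlJ := Thompson.mem_of_mem_centralizer (bU_le_sylow T hlU) hlp hlc
  have hlZ : l ∈ omegaOne p (centerThompsonOf p (T : Subgroup G)) :=
    subset_closure ⟨⟨hlJ, hlc⟩, hlp⟩
  have hbl : b * l = l * b := (mem_centralizer_iff.mp hb.2 l hlZ).symm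
  exact hl1 (Subgroup.mem_bot.mp (hLC ▸ ⟨hl,
    centralizes_of_fixed_moved hG hE hEs hbN (bM_le_self E (hLM hl)) hbl⟩))

/-- A subnormal block is moved by no `Ω₁(Z(T))`. -/
theorem commutator_omega_ne_bot (T : Sylow p G) :
    ⁅E, omegaOneCenter p (T : Subgroup G)⁆ ≠ ⊥ := by
  intro h0
  set P := (T : Subgroup G) ⊓ normalizer (E : Set G) with hP
  have hPp : IsPGroup p P := T.2.to_le inf_le_left
  obtain ⟨L, hLM, hLC, hPL, hLne, -⟩ := exists_piece hE hPp inf_le_right
  obtain ⟨x, hx, hx1, hfix⟩ := exists_fixed_ne_one hPp (isPGroup_of_le_bM hLM) hPL hLne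
  have hxU := bM_le_bU hG hE (hLM hx)
  obtain ⟨N, hN1, -, -, -, hNH⟩ := exists_norm (bU p G) (T : Subgroup G) P inf_le_left
    isElementary_bU fun y _ v hv => conj_mem_bU y hv
  obtain ⟨hNU, hNc⟩ := hN1 x hxU hfix
  have hNZ : N x ∈ omegaOneCenter p (T : Subgroup G) :=
    subset_closure ⟨⟨bU_le_sylow T hNU, mem_centralizer_iff.mpr hNc⟩,
      pow_eq_one_of_mem_omega _ hNU⟩
  have hNE : N x ∈ centralizer (E : Set G) := mem_centralizer_of_comm h0 hNZ
  have h := hNH x hxU hfix (centralizer (E : Set G)) fun t htT htP =>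
    moved_centralizes hG hE hEs (fun h => htP ⟨htT, h⟩) (bM_le_self E (hLM hx))
  have hxE : x ∈ centralizer (E : Set G) := by
    have h2 := mul_mem (inv_mem hNE) h
    rw [inv_mul_cancel_left, inv_mem_iff] at h2
    exact h2
  exact hx1 (Subgroup.mem_bot.mp (hLC ▸ ⟨hx, hxE⟩))

omit hE hEs hG in
/-- A Sylow subgroup containing `B(T)` has the same Baumann subgroup. -/
theorem baumann_eq_of_le {T R : Sylow p G}
    (h : baumannSubgroupOf p (T : Subgroup G) ≤ (R : Subgroup G)) :
    baumannSubgroupOf p (R : Subgroup G) = baumannSubgroupOf p (T : Subgroup G) := by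
  obtain ⟨g, hg⟩ := MulAction.exists_smul_eq G T R
  have hReq : (R : Subgroup G) = (T : Subgroup G).map (MulAut.conj g).toMonoidHom := by rw [← hg]; rfl
  have hfi : Function.Injective (MulAut.conj g).toMonoidHom := (MulAut.conj g).injective
  have hJle : thompsonSubgroupOf p (T : Subgroup G) ≤ thompsonSubgroupOf p (R : Subgroup G) := by
    rw [Thompson.thompsonSubgroupOf_eq_sSup]
    refine sSup_le fun A hA => Thompson.le_thompsonSubgroupOf ⟨hA.1,
      (Thompson.le_thompsonSubgroupOf hA).trans ((thompson_le_baumann _).trans h),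
      fun C hC hCR => ?_⟩
    obtain ⟨A', hA'⟩ := Thompson.exists_mem_maxIn p (T : Subgroup G)
    have hA'' := Thompson.map_mem_maxIn (p := p) hfi hA'
    rw [← hReq] at hA''
    calc Nat.card C ≤ Nat.card (A'.map (MulAut.conj g).toMonoidHom) := hA''.2.2 C hC hCR
      _ = Nat.card A' := Subgroup.card_map_of_injective hfi
      _ ≤ Nat.card A := hA.2.2 A' hA'.1 hA'.2.1
  have hJ : thompsonSubgroupOf p (T : Subgroup G) = thompsonSubgroupOf p (R : Subgroup G) := by
    refine eq_of_le_of_card_ge hJle (le_of_eq ?_)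
    rw [hReq, Thompson.thompsonSubgroupOf_map hfi, Subgroup.card_map_of_injective hfi]
  refine (eq_of_le_of_card_ge ?_ (le_of_eq ?_)).symm
  · refine le_inf h ?_
    have hz : centerThompsonOf p (R : Subgroup G) = centerThompsonOf p (T : Subgroup G) := by
      rw [centerThompsonOf, centerThompsonOf, hJ]
    rw [hz]
    exact inf_le_right
  · rw [hReq, baumann_map, Subgroup.card_map_of_injective hfi]

/-- A subnormal block is a block for every Sylow subgroup. -/
theorem isBaumannBlock_all (T' : Sylow p G) : IsBaumannBlock p (T' : Subgroup G) E := by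
  obtain ⟨T, hT⟩ := id hE
  set N := normalizer (E : Set G)
  have hB := baumann_le_normalizer_all hG hE hEs
  have hBp : ∀ S : Sylow p G, IsPGroup p ((baumannSubgroupOf p (S : Subgroup G)).subgroupOf N) :=
    fun S => ((S.2.to_le inf_le_left :
      IsPGroup p (baumannSubgroupOf p (S : Subgroup G)))).comap_subtype
  obtain ⟨S₁, hS₁⟩ := (hBp T).exists_le_sylow
  obtain ⟨S₂, hS₂⟩ := (hBp T').exists_le_sylow
  obtain ⟨⟨l, hl⟩, hlS⟩ := MulAction.exists_smul_eq N S₁ S₂
  obtain ⟨R, hR⟩ := (S₂.2.map N.subtype).exists_le_sylow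
  have h' : baumannSubgroupOf p (T' : Subgroup G) ≤ (R : Subgroup G) := fun x hx =>
    hR ⟨⟨x, hB T' hx⟩, hS₂ hx, rfl⟩
  have hlT : baumannSubgroupOf p ((l • T : Sylow p G) : Subgroup G) ≤ (R : Subgroup G) := by
    rw [show ((l • T : Sylow p G) : Subgroup G) =
      (T : Subgroup G).map (MulAut.conj l).toMonoidHom from rfl, baumann_map]
    rintro _ ⟨x, hx, rfl⟩
    refine hR ⟨⟨l, hl⟩ * ⟨x, hB T hx⟩ * (⟨l, hl⟩)⁻¹, ?_, rfl⟩
    rw [← hlS, Sylow.coe_subgroup_smul]
    exact ⟨⟨x, hB T hx⟩, hS₁ hx, rfl⟩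
  have hBeq : baumannSubgroupOf p (T' : Subgroup G) =
      baumannSubgroupOf p ((l • T : Sylow p G) : Subgroup G) :=
    (baumann_eq_of_le h').symm.trans (baumann_eq_of_le hlT)
  obtain ⟨h1, h2, h3, -, h5⟩ : IsBaumannBlock p ((l • T : Sylow p G) : Subgroup G) E := by
    have h := isBaumannBlock_map (MulAut.conj l) hT
    rwa [show E.map (MulAut.conj l).toMonoidHom = E from cj_eq_iff.mpr hl] at h
  rw [← hBeq] at h2 h5
  exact ⟨h1, h2, h3, commutator_omega_ne_bot hG hE hEs T', h5⟩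

omit hE hEs hG in
theorem baumannSubgroup_normal : (baumannSubgroup p G).Normal := by
  refine ⟨fun x hx g => ?_⟩
  have hle : baumannSubgroup p G ≤ (baumannSubgroup p G).comap (MulAut.conj g).toMonoidHom := by
    refine iSup_le fun S y hy => ?_
    refine (le_iSup (fun S : Sylow p G => baumannSubgroupOf p (S : Subgroup G)) (g • S)) ?_
    rw [show ((g • S : Sylow p G) : Subgroup G) =
      (S : Subgroup G).map (MulAut.conj g).toMonoidHom from rfl, baumann_map]
    exact ⟨y, hy, rfl⟩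
  exact hle hx

/-- A subnormal block lies in `B(G)`. -/
theorem le_baumannSubgroup : E ≤ baumannSubgroup p G := by
  obtain ⟨T, hT⟩ := id hE
  have hn := baumannSubgroup_normal (G := G) (p := p)
  rw [← hT.2.1, commutator_le]
  intro e _ b hb
  have hbB : b ∈ baumannSubgroup p G :=
    (le_iSup (fun S : Sylow p G => baumannSubgroupOf p (S : Subgroup G)) T) hb
  rw [commutatorElement_def]
  exact mul_mem (hn.conj_mem b hbB e) (inv_mem hbB)

theorem baumannSubgroup_le_normalizer : baumannSubgroup p G ≤ normalizer (E : Set G) :=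
  iSup_le fun S => baumann_le_normalizer_all hG hE hEs S

end

end Cfsg.Agent.Lib.BTBlock.Subn
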